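import Cfsg.Agent.S4Free.Basic
import Cfsg.Agent.Coprime.Generation
import Cfsg.Agent.Coprime.Tools
import Cfsg.Agent.Thompson.Offender.Action
import Cfsg.Agent.Fusion.SolvablePSolvable

/-!
# The subgroup `W` lies in `O₂(L)` and its conjugates commute

`commutator_map_le` reduces `[D, A]`, `D = O₂'(L / O₂(L))`, to inverted elements of odd order.
-/

set_option autoImplicit false

namespace Cfsg.Agent.SfFree

open Subgroup
open scoped commutatorElement

variable {L : Type*} [Group L] [Finite L]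

theorem card_le_card_of_le {H K : Subgroup L} (h : H ≤ K) : Nat.card H ≤ Nat.card K :=
  Nat.le_of_dvd Nat.card_pos (card_dvd_of_le h)

theorem card_sup_mul {H K : Subgroup L} (h : K ≤ normalizer (H : Set L)) :
    Nat.card (H ⊔ K : Subgroup L) * Nat.card (H ⊓ K : Subgroup L) = Nat.card H * Nat.card K := by
  set N := normalizer (H : Set L)
  have hHN : H ≤ N := le_normalizer
  have e := Core.card_sup_mul_card_inf (K.subgroupOf N) (H.subgroupOf N)
  rw [← subgroupOf_sup h hHN] at e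
  have h2 : K.subgroupOf N ⊓ H.subgroupOf N = (K ⊓ H).subgroupOf N := by ext; simp [mem_subgroupOf]
  rw [h2, Nat.card_congr (subgroupOfEquivOfLe (sup_le h hHN)).toEquiv,
    Nat.card_congr (subgroupOfEquivOfLe (inf_le_left.trans h : K ⊓ H ≤ N)).toEquiv,
    Nat.card_congr (subgroupOfEquivOfLe h).toEquiv,
    Nat.card_congr (subgroupOfEquivOfLe hHN).toEquiv] at e
  rw [sup_comm, inf_comm, e, mul_comm]

/-- To bound `[D, A]` it suffices to treat the elements of odd order inverted by `A`. -/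
theorem commutator_map_le (hL : Good L) {A : Subgroup L} (hA : Cfsg.IsElementaryAbelian 2 A)
    (Mb : Subgroup (L ⧸ Cfsg.pCore 2 L))
    (h : ∀ (B : Subgroup L) (a f : L), B ≤ A → a ∈ A → (∀ x ∈ A, x ∈ B ∨ a⁻¹ * x ∈ B) →
      A ⊓ Cfsg.pCore 2 L ≤ B → Odd (orderOf f) → ¬ 3 ∣ orderOf f → a * f * a⁻¹ = f⁻¹ →
      f ∈ normalizer ((Cfsg.pCore 2 L ⊔ B : Subgroup L) : Set L) →
      QuotientGroup.mk' (Cfsg.pCore 2 L) f ∈ Mb) :
    ⁅Cfsg.pPrimeCore 2 (L ⧸ Cfsg.pCore 2 L), A.map (QuotientGroup.mk' (Cfsg.pCore 2 L))⁆ ≤ Mb := by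
  have : Fact (Nat.Prime 2) := ⟨Nat.prime_two⟩
  set Q := Cfsg.pCore 2 L with hQ
  set π := QuotientGroup.mk' Q with hπ
  set D := Cfsg.pPrimeCore 2 (L ⧸ Q) with hD
  set Ab := A.map π with hAb
  have hAbe : Cfsg.IsElementaryAbelian 2 Ab := Thompson.ea_map hA π
  have : IsMulCommutative Ab := hAbe.1
  have hAD : Ab ≤ normalizer (D : Set (L ⧸ Q)) := by
    rw [normalizer_eq_top]; exact le_top
  have hcop : (Nat.card Ab).Coprime (Nat.card D) := by
    obtain ⟨n, hn⟩ := IsPGroup.iff_card.mp (Thompson.ea_isPGroup hAbe)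
    rw [hn]; exact (Core.coprime_card_pPrimeCore).symm.pow_left n
  rw [← Coprime.iSup_cocyclic_commutator_eq hAD hcop]
  refine iSup₂_le fun Bb hB => ?_
  obtain ⟨hBA, x, hx, hBx⟩ := hB
  rw [commutator_le]
  rintro d₁ ⟨hd1, hd1c⟩ y hy
  have hBc : ∀ z ∈ Bb, Commute z d₁ := fun z hz => mem_centralizer_iff.1 hd1c z hz
  by_cases hxB : x ∈ Bb
  · have hyB : y ∈ Bb := by
      rw [← hBx, sup_eq_left.2 (zpowers_le.2 hxB)] at hy; exact hy
    rw [commutatorElement_eq_one_iff_commute.2 (hBc y hyB).symm]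
    exact one_mem _
  have hx2 : x * x = 1 := ea_sq hAbe hx
  have hxc : ∀ z ∈ Bb, Commute x z := fun z hz => ea_commute hAbe hx (hBA hz)
  have hcos : ∀ z ∈ Ab, z ∈ Bb ∨ x * z ∈ Bb := by
    intro z hz
    rw [← hBx] at hz
    obtain ⟨b, hb, c, hc, rfl⟩ := (Coprime.mem_sup_of_le_normalizer (zpowers_le.2
      (centralizer_le_normalizer _ (mem_centralizer_iff.2 fun w hw => (hxc w hw).symm)))).mp hz
    obtain ⟨i, rfl⟩ := mem_zpowers_iff.1 hc
    rcases Int.even_or_odd i with ⟨k, rfl⟩ | ⟨k, rfl⟩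
    · left
      rwa [zpow_add, ← (Commute.refl x).mul_zpow, hx2, one_zpow, mul_one]
    · right
      rw [zpow_add_one, two_mul, zpow_add, ← (Commute.refl x).mul_zpow, hx2, one_zpow, one_mul,
        ← mul_assoc, (hxc b hb).eq, mul_assoc, hx2, mul_one]
      exact hb
  obtain ⟨a, ha, rfl⟩ := hx
  obtain ⟨d, rfl⟩ := QuotientGroup.mk'_surjective Q d₁
  have ha2 : a * a = 1 := ea_sq hA ha
  have hai : a⁻¹ = a := inv_eq_of_mul_eq_one_left ha2
  set e₀ := a * (d * a * d⁻¹) with he₀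
  obtain ⟨k, m, hm, hkm⟩ := Nat.exists_eq_two_pow_mul_odd (orderOf_pos e₀).ne'
  set f := e₀ ^ 2 ^ k with hf
  have hfo : orderOf f = m := by
    rw [hf, orderOf_pow_of_dvd (pow_ne_zero _ two_ne_zero) (hkm ▸ dvd_mul_right _ _), hkm,
      Nat.mul_div_cancel_left _ (pow_pos two_pos k)]
  have haf : a * f * a⁻¹ = f⁻¹ := by
    have he : a * e₀ * a⁻¹ = e₀⁻¹ := by
      rw [he₀, mul_inv_rev, mul_inv_rev, mul_inv_rev, inv_inv, hai]
      calc a * (a * (d * a * d⁻¹)) * a = a * a * (d * a * d⁻¹) * a := by group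
        _ = _ := by rw [ha2, one_mul]; group
    rw [hf, ← conj_pow, he, inv_pow]
  have he0 : π e₀ = π a * π d * π a * (π d)⁻¹ := by
    rw [he₀]; simp only [map_mul, map_inv, mul_assoc]
  have heD : π e₀ ∈ D := by
    rw [he0]
    refine mul_mem ?_ (inv_mem hd1)
    have := (inferInstance : D.Normal).conj_mem _ hd1 (π a)
    rwa [inv_eq_of_mul_eq_one_left hx2] at this
  have heD2 : (2 ^ k).Coprime (orderOf (π e₀)) := by
    refine Nat.Coprime.pow_left k (Nat.Coprime.symm ?_)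
    exact Nat.Coprime.coprime_dvd_left (Subgroup.orderOf_dvd_natCard D heD) Core.coprime_card_pPrimeCore
  have hef : π e₀ ∈ zpowers (π f) := by
    rw [hf, map_pow]; exact self_mem_zpowers_pow heD2
  set B := A ⊓ Bb.comap π with hBdef
  have hcosB : ∀ z ∈ A, z ∈ B ∨ a⁻¹ * z ∈ B := by
    intro z hz
    rcases hcos (π z) (mem_map_of_mem π hz) with h1 | h1
    · exact Or.inl ⟨hz, h1⟩
    · refine Or.inr ⟨A.mul_mem (A.inv_mem ha) hz, ?_⟩
      show π (a⁻¹ * z) ∈ Bb
      rwa [hai, map_mul]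
  have hAQ : A ⊓ Q ≤ B := fun z hz => ⟨hz.1, by
    show π z ∈ Bb
    rw [show π z = 1 from (QuotientGroup.eq_one_iff z).2 hz.2]; exact one_mem _⟩
  have h3 : ¬ 3 ∣ orderOf f := by
    rintro ⟨r, hr⟩
    have hr0 : r ≠ 0 := fun e => (orderOf_pos f).ne' (by rw [hr, e, mul_zero])
    have hg3 : orderOf (f ^ r) = 3 := by
      rw [orderOf_pow_of_dvd hr0 ⟨3, by rw [hr, mul_comm]⟩, hr,
        Nat.mul_div_cancel _ (Nat.pos_of_ne_zero hr0)]
    have hπg : orderOf (π (f ^ r)) = 3 := by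
      rcases (Nat.dvd_prime Nat.prime_three).1 (hg3 ▸ orderOf_map_dvd π (f ^ r)) with h1 | h1
      · exfalso
        obtain ⟨j, hj⟩ := IsPGroup.iff_card.mp (Core.pCore_isPGroup (p := 2) (G := L))
        have h4 : orderOf (f ^ r) ∣ 2 ^ j := hj ▸
          Subgroup.orderOf_dvd_natCard Q ((QuotientGroup.eq_one_iff _).1 (orderOf_eq_one_iff.1 h1))
        rw [hg3] at h4
        exact absurd (Nat.prime_three.dvd_of_dvd_pow h4) (by norm_num)
      · exact h1
    refine hL.no_three hx2 hπg ?_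
    rw [← map_inv, ← map_mul, ← map_mul, ← map_inv, ← conj_pow, haf, inv_pow]
  have hfN : f ∈ normalizer ((Q ⊔ B : Subgroup L) : Set L) := by
    have e1 : Q ⊔ B = (B.map π).comap π := by rw [comap_map_eq, QuotientGroup.ker_mk', sup_comm]
    have hc : ∀ z ∈ Bb, Commute (π f) z := by
      intro z hz
      rw [hf, map_pow]
      refine Commute.pow_left ?_ _
      rw [he0]
      exact (((hxc z hz).mul_left (hBc z hz).symm).mul_left (hxc z hz)).mul_left (hBc z hz).symm.inv_left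
    refine QdFree.ZJControl.mem_normalizer_of_conj fun z hz => ?_
    rw [e1, mem_comap] at hz ⊢
    rw [map_mul, map_mul, map_inv, (hc (π z) ?_).eq, mul_inv_cancel_right]
    · exact hz
    · obtain ⟨w, hw, hwz⟩ := hz
      rw [← hwz]; exact hw.2
  have hfM : π f ∈ Mb := h B a f inf_le_left ha hcosB hAQ (hfo ▸ hm) h3 haf hfN
  rcases hcos y hy with hyB | hyB
  · rw [commutatorElement_eq_one_iff_commute.2 (hBc y hyB).symm]
    exact one_mem _
  · have hbd := hBc _ hyB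
    have : ⁅π d, y⁆ = (π e₀)⁻¹ := by
      have hyeq : y = π a * (π a * y) := by rw [← mul_assoc, hx2, one_mul]
      rw [hyeq, he0, commutatorElement_def]
      calc π d * (π a * (π a * y)) * (π d)⁻¹ * (π a * (π a * y))⁻¹
          = π d * π a * ((π a * y) * (π d)⁻¹) * (π a * y)⁻¹ * (π a)⁻¹ := by group
        _ = π d * π a * ((π d)⁻¹ * (π a * y)) * (π a * y)⁻¹ * (π a)⁻¹ := by rw [hbd.inv_right.eq]
        _ = π d * π a * (π d)⁻¹ * (π a)⁻¹ := by group
        _ = (π a * π d * (π a)⁻¹ * (π d)⁻¹)⁻¹ := by group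
        _ = _ := by rw [inv_eq_of_mul_eq_one_left hx2]
    rw [this]
    exact inv_mem (zpowers_le.2 hfM hef)

/-- `O₂'(L / O₂(L))` contains its centralizer. -/
theorem centralizer_core_le (hL : Good L) :
    centralizer (Cfsg.pPrimeCore 2 (L ⧸ Cfsg.pCore 2 L) : Set (L ⧸ Cfsg.pCore 2 L)) ≤
      Cfsg.pPrimeCore 2 (L ⧸ Cfsg.pCore 2 L) := by
  have : Fact (Nat.Prime 2) := ⟨Nat.prime_two⟩
  have := hL.solvable
  exact Offender.centralizer_pPrimeCore_le
    (Fusion.isPSolvable_of_isSolvable (p := 2) (L ⧸ Cfsg.pCore 2 L)) Core.pCore_quotient_eq_bot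

theorem W_le_core (hL : Good L) (S : Sylow 2 L) {W : Subgroup L} (hd : Data (S : Subgroup L) W) :
    W ≤ Cfsg.pCore 2 L := by
  have : Fact (Nat.Prime 2) := ⟨Nat.prime_two⟩
  set Q := Cfsg.pCore 2 L with hQ
  set π := QuotientGroup.mk' Q with hπ
  suffices key : ⁅Cfsg.pPrimeCore 2 (L ⧸ Q), W.map π⁆ ≤ ⊥ by
    have h1 : W.map π ≤ Cfsg.pPrimeCore 2 (L ⧸ Q) := by
      refine le_trans ?_ (centralizer_core_le hL)
      rw [← Subgroup.le_centralizer_iff]
      exact commutator_eq_bot_iff_le_centralizer.1 (le_bot_iff.1 key)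
    intro w hw
    refine (QuotientGroup.eq_one_iff w).1 (orderOf_eq_one_iff.1 ?_)
    have h2 := (orderOf_dvd_of_pow_eq_one (x := π w) (n := 2)
      (by rw [← map_pow, hd.ea.2 w hw, map_one]))
    exact Nat.eq_one_of_dvd_coprimes Core.coprime_card_pPrimeCore
      (Subgroup.orderOf_dvd_natCard _ (h1 (mem_map_of_mem π hw))) h2
  refine commutator_map_le hL hd.ea ⊥ fun B a f hBW ha hcos _ hfo h3 haf hfN => ?_
  rw [Subgroup.mem_bot]
  refine (QuotientGroup.eq_one_iff f).2 ?_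
  set Q₁ := Q ⊔ B with hQ₁
  have hQS : Q ≤ S := Core.pCore_le_sylow S
  have hQ₁S : Q₁ ≤ S := sup_le hQS (hBW.trans hd.le_S)
  have ha2 : a * a = 1 := ea_sq hd.ea ha
  have hai : a⁻¹ = a := inv_eq_of_mul_eq_one_left ha2
  have haQ₁ : a ∈ normalizer (Q₁ : Set L) := by
    refine mem_normalizer_iff_map_conj_eq.2 ?_
    show cj a Q₁ = Q₁
    rw [hQ₁, cj_sup, cj_of_commute (H := B) (mem_centralizer_iff.2 fun b hb => ea_commute hd.ea (hBW hb) ha),
      cj_of_mem_normalizer (H := Q) (by rw [normalizer_eq_top]; exact mem_top a)]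
  set W₀ := W ⊓ Q₁ with hW₀
  set A := cj f W₀ with hA
  set t := f * a with ht
  have htQ₁ : t ∈ normalizer (Q₁ : Set L) := mul_mem hfN haQ₁
  have ht2 : t * t = 1 := by
    calc t * t = f * (a * f * a⁻¹) * (a * a) := by rw [ht]; group
      _ = 1 := by rw [haf, ha2, mul_one, mul_inv_cancel]
  have htW₀ : cj t W₀ = A := by
    rw [hA, ht, ← cj_cj, cj_of_commute (mem_centralizer_iff.2 fun (w : L) (hw : w ∈ W₀) => ea_commute hd.ea hw.1 ha)]
  have htA : cj t A = W₀ := by rw [← htW₀, cj_cj, ht2, cj_one]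
  have hW₀Q : W₀ ≤ Q₁ := inf_le_right
  have hAQ₁ : A ≤ Q₁ := (cj_mono hW₀Q).trans (cj_of_mem_normalizer hfN).le
  have hAe : Cfsg.IsElementaryAbelian 2 A := ea_cj (Thompson.ea_mono hd.ea inf_le_left)
  have hcomm : ∀ z ∈ Q₁, a * z * a⁻¹ * z⁻¹ ∈ W₀ := by
    intro z hz
    refine ⟨?_, Q₁.mul_mem ((mem_normalizer_iff.1 haQ₁ z).1 hz) (Q₁.inv_mem hz)⟩
    rw [show a * z * a⁻¹ * z⁻¹ = a * (z * a⁻¹ * z⁻¹) by group]
    exact mul_mem ha ((mem_normalizer_iff.1 (hd.normal (hQ₁S hz)) a⁻¹).1 (inv_mem ha))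
  have hsym : Nat.card (W₀ ⊓ centralizer (A : Set L) : Subgroup L) =
      Nat.card (A ⊓ centralizer (W₀ : Set L) : Subgroup L) := by
    rw [← card_cj t, cj_inf, cj_centralizer, htW₀, htA]
  have hp : Nat.card A = Nat.card W₀ := card_cj _ _
  have hr : Nat.card W ≤ 2 * Nat.card W₀ :=
    card_le_mul_of_relIndex inf_le_left (relIndex_le_two ha fun z hz =>
      (hcos z hz).imp (fun h => ⟨hz, le_sup_right (a := Q) h⟩)
        fun h => ⟨W.mul_mem (W.inv_mem ha) hz, le_sup_right (a := Q) h⟩)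
  have hsmall : Nat.card A ≤ 2 * Nat.card (A ⊓ centralizer (W : Set L) : Subgroup L) := by
    have h0 := hd.sq_ea (hAQ₁.trans hQ₁S) hAe
    have h1 : Nat.card (A ⊓ centralizer (W : Set L) : Subgroup L) ≤
        Nat.card (W ⊓ centralizer (A : Set L) : Subgroup L) :=
      ((card_le_card_of_le (inf_le_inf_left A (centralizer_le (inf_le_left : W₀ ≤ W)))).trans
        hsym.ge).trans (card_le_card_of_le (inf_le_inf_right _ inf_le_left))
    have hq : 0 < Nat.card (A ⊓ centralizer (W : Set L) : Subgroup L) := Nat.card_pos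
    have hpos : 0 < Nat.card A := Nat.card_pos
    rw [hp] at h0 hpos ⊢
    nlinarith [Nat.mul_le_mul (le_refl (Nat.card W₀ ^ 2)) h1,
      Nat.mul_le_mul hr (le_refl (Nat.card (A ⊓ centralizer (W : Set L) : Subgroup L) ^ 2)),
      Nat.mul_pos hpos hq]
  have hAN : A ≤ normalizer (W₀ : Set L) := fun z hz => by
    refine QdFree.ZJControl.mem_normalizer_of_conj fun w hw => ⟨?_, ?_⟩
    · exact (mem_normalizer_iff.1 (hd.normal (hQ₁S (hAQ₁ hz))) w).1 hw.1
    · exact Q₁.mul_mem (Q₁.mul_mem (hAQ₁ hz) hw.2) (Q₁.inv_mem (hAQ₁ hz))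
  set D₀ := W₀ ⊔ A with hD₀
  have hD₀Q : D₀ ≤ Q₁ := sup_le hW₀Q hAQ₁
  have htD₀ : cj t D₀ = D₀ := by rw [hD₀, cj_sup, htW₀, htA, sup_comm]
  have haD₀ : a ∈ normalizer (D₀ : Set L) := by
    refine QdFree.ZJControl.mem_normalizer_of_conj fun z hz => ?_
    have := mul_mem (le_sup_left (a := W₀) (b := A) (hcomm z (hD₀Q hz))) hz
    rwa [inv_mul_cancel_right] at this
  have htD₀' : t ∈ normalizer (D₀ : Set L) := mem_normalizer_iff_map_conj_eq.2 htD₀
  have hfD₀ : f ∈ normalizer (D₀ : Set L) := by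
    have := mul_mem htD₀' (inv_mem haD₀)
    rwa [ht, mul_inv_cancel_right] at this
  set a' := f * a * f⁻¹ with ha'
  have hta : t * a * t⁻¹ = a' := by rw [ht, ha']; group
  set X := D₀ ⊓ centralizer (zpowers a : Set L) with hX
  have hX2 : X.relIndex D₀ ≤ 2 := by
    refine relIndex_le_of_card inf_le_left ?_
    have hY : W₀ ⊔ A ⊓ centralizer (W : Set L) ≤ X := by
      refine le_inf (sup_le_sup_left inf_le_left _) (sup_le ?_ ?_)
      · exact inf_le_left.trans ((Thompson.ea_iff.1 hd.ea).1.trans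
          (centralizer_le (zpowers_le.2 ha)))
      · exact inf_le_right.trans (centralizer_le (zpowers_le.2 ha))
    have h1 := card_mul_card_le W₀ (A ⊓ centralizer (W : Set L))
    have h2 := card_sup_mul hAN
    rw [← hD₀] at h2
    have h3 := card_le_card_of_le hY
    have h4 : Nat.card (W₀ ⊓ (A ⊓ centralizer (W : Set L)) : Subgroup L) ≤
        Nat.card (W₀ ⊓ A : Subgroup L) := card_le_card_of_le (inf_le_inf_left _ inf_le_left)
    refine Nat.le_of_mul_le_mul_right (c := Nat.card (W₀ ⊓ A : Subgroup L)) ?_ Nat.card_pos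
    rw [h2]
    calc Nat.card W₀ * Nat.card A
        ≤ Nat.card W₀ * (2 * Nat.card (A ⊓ centralizer (W : Set L) : Subgroup L)) :=
          Nat.mul_le_mul le_rfl hsmall
      _ = 2 * (Nat.card W₀ * Nat.card (A ⊓ centralizer (W : Set L) : Subgroup L)) := by ring
      _ ≤ 2 * (Nat.card X * Nat.card (W₀ ⊓ A : Subgroup L)) :=
          Nat.mul_le_mul le_rfl (h1.trans (Nat.mul_le_mul h3 h4))
      _ = _ := by ring
  have hX' : cj t X = D₀ ⊓ centralizer (zpowers a' : Set L) := by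
    rw [hX, cj_inf, htD₀, cj_centralizer]
    show _ ⊓ centralizer (((zpowers a).map (MulAut.conj t).toMonoidHom : Subgroup L) : Set L) = _
    rw [MonoidHom.map_zpowers]
    rw [show (MulAut.conj t).toMonoidHom a = a' from hta]
  have hX'2 : (cj t X).relIndex D₀ ≤ 2 := by
    refine relIndex_le_of_card (hX' ▸ inf_le_left) ?_
    rw [card_cj]
    exact card_le_mul_of_relIndex inf_le_left hX2
  have hff : a' * a = f ^ 2 := by
    rw [ha', pow_two]
    calc f * a * f⁻¹ * a = f * (a * f * a⁻¹)⁻¹ * (a * a) := by group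
      _ = f * f := by rw [haf, inv_inv, ha2, mul_one]
  have hco : (2 : ℕ).Coprime (orderOf f) := (coprime_two_of_odd hfo).symm
  have hfY : f ∈ centralizer ((X ⊓ cj t X : Subgroup L) : Set L) := by
    refine zpowers_le.2 (mem_centralizer_iff.2 fun z hz => ?_) (self_mem_zpowers_pow hco)
    rw [← hff]
    have h1 : Commute z a := (mem_centralizer_iff.1 hz.1.2 a (mem_zpowers a)).symm
    have h2 : Commute z a' := (mem_centralizer_iff.1 (hX' ▸ hz.2).2 a' (mem_zpowers a')).symm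
    exact (h2.mul_right h1).eq
  have hD₀p : IsPGroup 2 D₀ := S.2.to_le (hD₀Q.trans hQ₁S)
  have hfD : f ∈ centralizer (D₀ : Set L) :=
    mem_centralizer_of_small_index hD₀p (inf_le_left.trans inf_le_left)
      (relIndex_inf_le.trans (Nat.mul_le_mul hX2 hX'2)) hfo h3 hfD₀ hfY
  have hfQ : f ∈ centralizer (Q₁ : Set L) := by
    refine zpowers_le.2 (mem_centralizer_iff.2 fun z hz => ?_) (self_mem_zpowers_pow hco)
    refine (QdFree.ZJControl.commute_of_stable hD₀p ?_ (pow_mem hfD 2) ?_).eq.symm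
    · exact Nat.Coprime.coprime_dvd_left (orderOf_pow_dvd 2) (coprime_two_of_odd hfo)
    · set z₁ := a * z * a⁻¹ with hz₁
      have hz₁Q : z₁ ∈ Q₁ := (mem_normalizer_iff.1 haQ₁ z).1 hz
      have hz₀ : t⁻¹ * z₁ * t ∈ Q₁ := by
        simpa using (mem_normalizer_iff.1 (inv_mem htQ₁) z₁).1 hz₁Q
      have h2 : a' * z₁ * a'⁻¹ * z₁⁻¹ ∈ D₀ := by
        rw [show a' * z₁ * a'⁻¹ * z₁⁻¹ =
          t * (a * (t⁻¹ * z₁ * t) * a⁻¹ * (t⁻¹ * z₁ * t)⁻¹) * t⁻¹ by rw [← hta]; group]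
        exact (mem_normalizer_iff.1 htD₀' _).1 (le_sup_left (a := W₀) (b := A) (hcomm _ hz₀))
      have := mul_mem h2 (le_sup_left (a := W₀) (b := A) (hcomm z hz))
      rw [← hff]
      rwa [hz₁, show a' * (a * z * a⁻¹) * a'⁻¹ * (a * z * a⁻¹)⁻¹ * (a * z * a⁻¹ * z⁻¹) =
        a' * a * z * (a' * a)⁻¹ * z⁻¹ by group] at this
  exact hL.char2 (centralizer_le (le_sup_left : Q ≤ Q₁) hfQ)

/-- Every conjugate of `W` lies in `O₂(L)`. -/
theorem cj_le_core (hL : Good L) (S : Sylow 2 L) {W : Subgroup L} (hd : Data (S : Subgroup L) W)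
    (g : L) : cj g W ≤ Cfsg.pCore 2 L :=
  (cj_mono (W_le_core hL S hd)).trans
    (cj_of_mem_normalizer (by rw [normalizer_eq_top]; exact mem_top g)).le

/-- All conjugates of `W` commute. -/
theorem cj_commute (hL : Good L) (S : Sylow 2 L) {W : Subgroup L} (hd : Data (S : Subgroup L) W)
    (g h : L) : cj g W ≤ centralizer (cj h W : Set L) := by
  have : Fact (Nat.Prime 2) := ⟨Nat.prime_two⟩
  suffices key : ∀ g : L, cj g W ≤ centralizer (W : Set L) by
    have := cj_mono (g := h) (key (h⁻¹ * g))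
    rwa [cj_cj, cj_centralizer, mul_inv_cancel_left] at this
  intro g
  have hS : ∀ g : L, cj g W ≤ S := fun g => (cj_le_core hL S hd g).trans (Core.pCore_le_sylow S)
  have h1 := hd.sq_ea (hS g) (ea_cj hd.ea)
  have h2 := hd.sq_ea (hS g⁻¹) (ea_cj hd.ea)
  have e1 : Nat.card (W ⊓ centralizer (cj g⁻¹ W : Set L) : Subgroup L) =
      Nat.card (cj g W ⊓ centralizer (W : Set L) : Subgroup L) := by
    rw [← card_cj g, cj_inf, cj_centralizer, cj_cj, mul_inv_cancel, cj_one]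
  have e2 : Nat.card (cj g⁻¹ W ⊓ centralizer (W : Set L) : Subgroup L) =
      Nat.card (W ⊓ centralizer (cj g W : Set L) : Subgroup L) := by
    rw [← card_cj g, cj_inf, cj_centralizer, cj_cj, mul_inv_cancel, cj_one]
  rw [card_cj, e1, e2] at h2
  rw [card_cj] at h1
  set p := Nat.card W
  set u := Nat.card (W ⊓ centralizer (cj g W : Set L) : Subgroup L)
  set q := Nat.card (cj g W ⊓ centralizer (W : Set L) : Subgroup L) with hq
  have hp : 0 < p := Nat.card_pos
  have hu : u ≤ p := card_le_card_of_le inf_le_left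
  have hqp : q ≤ p := (card_le_card_of_le inf_le_left).trans (card_cj g W).le
  have hu0 : 0 < u := Nat.card_pos
  have hq0 : 0 < q := Nat.card_pos
  have a1 : p * u ≤ q ^ 2 := Nat.le_of_mul_le_mul_left (by rw [← mul_assoc, ← pow_two]; exact h1) hp
  have a2 : p * q ≤ u ^ 2 := Nat.le_of_mul_le_mul_left (by rw [← mul_assoc, ← pow_two]; exact h2) hp
  have a3 : p * p ≤ u * q := by
    refine Nat.le_of_mul_le_mul_right (c := u * q) ?_ (Nat.mul_pos hu0 hq0)
    nlinarith [Nat.mul_le_mul a1 a2]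
  have a4 : p ≤ q := by nlinarith [Nat.mul_le_mul hu (le_refl q)]
  have := eq_of_le_of_card_ge (inf_le_left : cj g W ⊓ centralizer (W : Set L) ≤ cj g W)
    ((card_cj g W).le.trans a4)
  exact this ▸ inf_le_right

end Cfsg.Agent.SfFree
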