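import Cfsg.Agent.S4Free.Generation
import Cfsg.Agent.S3755
import Cfsg.Agent.Thompson.Offender.Action

/-!
# Maximal 2-local subgroups when every 2-local is solvable, of characteristic two and `S₄`-free
-/

set_option autoImplicit false

namespace Cfsg.Agent.SfFree

open Subgroup
open scoped commutatorElement

variable {G : Type*} [Group G] [Finite G]

/-- `Ω₁(Z(T))` for a subgroup `T`. -/
abbrev omZ (T : Subgroup G) : Subgroup G :=
  Cfsg.omegaOne 2 (T ⊓ centralizer (T : Set G))

theorem omZ_le (T : Subgroup G) : omZ T ≤ T := (Thompson.omegaOne_le 2 _).trans inf_le_left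

theorem le_centralizer_omZ (T : Subgroup G) : T ≤ centralizer (omZ T : Set G) :=
  Subgroup.le_centralizer_iff.1 ((Thompson.omegaOne_le 2 _).trans inf_le_right)

theorem omZ_ne_bot {T : Subgroup G} (hT : IsPGroup 2 T) (hne : T ≠ ⊥) : omZ T ≠ ⊥ := by
  have : Fact (Nat.Prime 2) := ⟨Nat.prime_two⟩
  have : Nontrivial T := (Subgroup.nontrivial_iff_ne_bot T).2 hne
  have hc := hT.center_nontrivial
  obtain ⟨n, hn0, hn⟩ := (hT.to_subgroup (center T)).nontrivial_iff_card.1 hc
  obtain ⟨z, hz⟩ := exists_prime_orderOf_dvd_card' (G := center T) 2 (hn ▸ dvd_pow_self 2 (by omega))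
  intro h
  have hmem : ((z : T) : G) ∈ omZ T := by
    refine Thompson.mem_omegaOne ⟨(z : T).2, mem_centralizer_iff.2 fun x hx => ?_⟩ ?_
    · exact congrArg Subtype.val (mem_center_iff.1 z.2 ⟨x, hx⟩)
    · have := pow_orderOf_eq_one z
      rw [hz] at this
      exact congrArg (fun x : center T => ((x : T) : G)) this
  rw [h, Subgroup.mem_bot] at hmem
  have : z = 1 := Subtype.ext (Subtype.ext hmem)
  rw [this, orderOf_one] at hz
  norm_num at hz

theorem jS_ne_bot {T : Subgroup G} (hT : IsPGroup 2 T) (hne : T ≠ ⊥) : jS T ≠ ⊥ := by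
  obtain ⟨A, hA⟩ := exists_mem T
  intro h
  have hA1 : Nat.card A = 1 := by
    rw [Subgroup.card_eq_one, ← le_bot_iff, ← h]; exact le_jS hA
  have := hA.2.2 (omZ T) (omZ_le T) (Thompson.omegaOne_centre_ea 2 T)
  have h2 := (one_lt_card_iff_ne_bot _).2 (omZ_ne_bot hT hne)
  omega

theorem isTwoLocal_normalizer {X : Subgroup G} (hX : IsPGroup 2 X) (hne : X ≠ ⊥) :
    Cfsg.IsTwoLocal (normalizer (X : Set G)) := ⟨X, hX, hne, rfl⟩

theorem IsTwoLocal.conj {N : Subgroup G} (h : Cfsg.IsTwoLocal N) (g : G) :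
    Cfsg.IsTwoLocal (cj g N) := by
  obtain ⟨T, hT, hne, rfl⟩ := h
  refine ⟨cj g T, hT.map _, fun e => hne ?_, ?_⟩
  · exact (Subgroup.map_eq_bot_iff_of_injective T (MulAut.conj g).injective).1 e
  · exact map_equiv_normalizer_eq T (MulAut.conj g)

theorem IsMaximalTwoLocal.conj {M : Subgroup G} (h : Cfsg.IsMaximalTwoLocal M) (g : G) :
    Cfsg.IsMaximalTwoLocal (cj g M) := by
  refine ⟨IsTwoLocal.conj h.1 g, fun N hN hle => ?_⟩
  have h1 : cj g⁻¹ N = M := h.2 _ (IsTwoLocal.conj hN g⁻¹) (by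
    have := cj_mono (g := g⁻¹) hle
    rwa [cj_cj, inv_mul_cancel, cj_one] at this)
  rw [← h1, cj_cj, mul_inv_cancel, cj_one]

theorem exists_maximal {N : Subgroup G} (hN : Cfsg.IsTwoLocal N) :
    ∃ M, Cfsg.IsMaximalTwoLocal M ∧ N ≤ M := by
  obtain ⟨M, hM, hmax⟩ := Set.exists_max_image {M : Subgroup G | Cfsg.IsTwoLocal M ∧ N ≤ M}
    (fun M => Nat.card M) (Set.toFinite _) ⟨N, hN, le_rfl⟩
  exact ⟨M, ⟨hM.1, fun K hK hle =>
    (eq_of_le_of_card_ge hle (hmax K ⟨hK, hM.2.trans hle⟩)).symm⟩, hM.2⟩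

/-- A subgroup is generated by normalizers when the hypothesis holds for one of its Sylow
subgroups. -/
theorem le_of_normalizers {H K₀ T W : Subgroup G} (hH : Good H) (hTH : T ≤ H)
    (P : Sylow 2 H) (hP : (P : Subgroup H).map H.subtype = T) (hd : Data T W)
    (hJ : H ⊓ normalizer (jS T : Set G) ≤ K₀) (hW : H ⊓ normalizer (W : Set G) ≤ K₀) : H ≤ K₀ := by
  have hmapW : (W.subgroupOf H).map H.subtype = W := by
    rw [subgroupOf_map_subtype, inf_eq_left.2 (hd.le_S.trans hTH)]
  have hd' : Data (P : Subgroup H) (W.subgroupOf H) :=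
    Data.comap H.subtype_injective (by rw [hP, hmapW]; exact hd)
  refine subgroupOf_eq_top.1 (eq_top_of_normalizers_le hH P hd' _ ?_ ?_)
  · intro x hx
    refine hJ ⟨x.2, ?_⟩
    have := le_normalizer_map H.subtype ⟨x, hx, rfl⟩
    rwa [← jS_map H.subtype_injective, hP] at this
  · intro x hx
    refine hW ⟨x.2, ?_⟩
    have := le_normalizer_map H.subtype ⟨x, hx, rfl⟩
    rwa [hmapW] at this

/-- `Ω₁(Z(T))` satisfies the hypothesis for trivial reasons. -/
theorem data_omZ (T : Subgroup G) : Data T (omZ T) := by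
  refine ⟨omZ_le T, (le_centralizer_omZ T).trans (centralizer_le_normalizer _),
    Thompson.omegaOne_centre_ea 2 T, fun A hA => hA.1.trans (le_centralizer_omZ T),
    fun A hA _ _ => ?_⟩
  rw [inf_eq_left.2 (hA.trans (le_centralizer_omZ T)), mul_comm]
  exact Nat.mul_le_mul (card_le_card_of_le inf_le_left) le_rfl

/-- A normal elementary abelian subgroup with a reduced action of an `S₄`-free solvable group has
no offenders up to the square bound. -/
theorem sq_of_reduced {L : Type*} [Group L] [Finite L] [Group.IsSolvable L]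
    (hfree : ¬ Cfsg.Involves (Equiv.Perm (Fin 4)) L) (V : Subgroup L) [V.Normal]
    (hV : Cfsg.IsElementaryAbelian 2 V)
    (hred : ∀ D : Subgroup L, D.Normal → centralizer (V : Set L) ≤ D →
      (∃ k : ℕ, (centralizer (V : Set L)).relIndex D = 2 ^ k) → D = centralizer (V : Set L))
    (A : Subgroup L) (hsq : ∀ a ∈ A, a * a ∈ centralizer (V : Set L))
    (hcm : ∀ a ∈ A, ∀ b ∈ A, ⁅a, b⁆ ∈ centralizer (V : Set L)) :
    Nat.card A ^ 2 * Nat.card (V ⊓ centralizer (A : Set L) : Subgroup L) ≤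
      Nat.card V * Nat.card (A ⊓ centralizer (V : Set L) : Subgroup L) ^ 2 := by
  have : Fact (Nat.Prime 2) := ⟨Nat.prime_two⟩
  set σ := Offender.act V with hσ
  have hker : σ.ker = centralizer (V : Set L) := Offender.act_ker
  have hAe : Cfsg.IsElementaryAbelian 2 (A.map σ) := by
    refine Thompson.ea_iff.2 ⟨?_, ?_⟩
    · rintro _ ⟨a, ha, rfl⟩
      rw [mem_centralizer_iff]
      rintro _ ⟨b, hb, rfl⟩
      refine commutatorElement_eq_one_iff_commute.1 ?_
      rw [← map_commutatorElement, ← MonoidHom.mem_ker, hker]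
      exact hcm b hb a ha
    · rintro _ ⟨a, ha, rfl⟩
      rw [pow_two, ← map_mul, ← MonoidHom.mem_ker, hker]
      exact hsq a ha
  have hfaith : σ.range ⊓ centralizer (Offender.emb V V : Set (Offender.Hol V)) = ⊥ := by
    rw [eq_bot_iff]
    rintro x ⟨⟨g, rfl⟩, hc⟩
    refine mem_bot.2 (MonoidHom.mem_ker.1 ?_)
    rw [hker, mem_centralizer_iff]
    intro v hv
    have h1 := mem_centralizer_iff.1 hc _ (Offender.inl_mem_emb (v := ⟨v, hv⟩).2 hv)
    have h2 := Offender.act_conj g ⟨v, hv⟩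
    rw [← hσ, ← h1, mul_inv_cancel_right] at h2
    exact (mul_inv_eq_iff_eq_mul.1
      (congrArg Subtype.val (SemidirectProduct.inl_injective h2)).symm).symm
  have hrange : Cfsg.pCore 2 σ.range = ⊥ := by
    refine Offender.pCore_range_eq_bot σ (Offender.pCore_quotient_eq_bot fun D hDn hCD hk => ?_)
    rw [hker] at hCD hk ⊢
    exact hred D hDn hCD hk
  have hcon : centralizer (Cfsg.pPrimeCore 2 ↥σ.range : Set ↥σ.range) ≤
      Cfsg.pPrimeCore 2 ↥σ.range :=
    Offender.centralizer_pPrimeCore_le (Layer.isPSolvable_of_surjective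
      (Fusion.isPSolvable_of_isSolvable (p := 2) L) σ.rangeRestrict_surjective) hrange
  by_contra hsmall
  have h3 := S3755.result σ.range (Offender.emb V V) (Offender.emb_ea hV)
    Offender.act_le_normalizer hfaith hcon (A.map σ) (map_le_range σ A) hAe ?_
  · set N := normalizer (V : Set L)
    refine hfree (S2759.result.mpr ⟨V, Thompson.ea_isPGroup hV, ?_⟩)
    refine QdFree.involves_of_surjective h3
      (f := QuotientGroup.lift _ (σ.rangeRestrict.comp N.subtype) ?_) ?_
    · intro z hz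
      refine Subtype.ext ?_
      show σ (z : L) = 1
      rw [← MonoidHom.mem_ker, hker]
      exact hz
    · intro x
      obtain ⟨g, rfl⟩ := σ.rangeRestrict_surjective x
      exact ⟨QuotientGroup.mk ⟨g, by rw [normalizer_eq_top]; exact mem_top g⟩, rfl⟩
  · rw [hσ, Offender.fix_act]
    have hle : Offender.emb V (V ⊓ centralizer (A : Set L)) ≤ Offender.emb V V :=
      map_mono fun _ h => h.1
    by_contra hno
    push Not at hno
    refine hsmall ?_
    have e := Coprime.card_mul_relIndex_of_le hle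
    rw [Offender.card_emb inf_le_left, Offender.card_emb le_rfl] at e
    rw [← Offender.card_map_act_mul (V := V) A, ← e]
    calc (Nat.card (A.map (Offender.act V)) * Nat.card (A ⊓ centralizer (V : Set L) : Subgroup L)) ^ 2 *
          Nat.card (V ⊓ centralizer (A : Set L) : Subgroup L)
        = Nat.card (V ⊓ centralizer (A : Set L) : Subgroup L) *
            Nat.card (A.map (Offender.act V)) ^ 2 *
            Nat.card (A ⊓ centralizer (V : Set L) : Subgroup L) ^ 2 := by ring
      _ ≤ _ := Nat.mul_le_mul (Nat.mul_le_mul le_rfl hno) le_rfl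

/-- The hypothesis of the statement. -/
abbrev Hloc (G : Type*) [Group G] : Prop :=
  ∀ M : Subgroup G, Cfsg.IsTwoLocal M → Group.IsSolvable M ∧ Cfsg.IsOfCharacteristicTwo ↥M ∧
    ¬ Cfsg.Involves (Equiv.Perm (Fin 4)) ↥M

theorem good_of_local (hloc : Hloc G) {M : Subgroup G} (hM : Cfsg.IsTwoLocal M) : Good M :=
  ⟨(hloc M hM).1, (hloc M hM).2.1, (hloc M hM).2.2⟩

/-- All 2-locals over a Sylow 2-subgroup lie in one of them. -/
theorem exists_unique_over_sylow (hloc : Hloc G) (S : Sylow 2 G) (hS : (S : Subgroup G) ≠ ⊥) :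
    ∃ M₀, Cfsg.IsTwoLocal M₀ ∧ ∀ H, Cfsg.IsTwoLocal H → (S : Subgroup G) ≤ H → H ≤ M₀ := by
  have : Fact (Nat.Prime 2) := ⟨Nat.prime_two⟩
  set K := normalizer (jS (S : Subgroup G) : Set G) with hK
  have hSK : (S : Subgroup G) ≤ K := le_normalizer_jS _
  have hKloc : Cfsg.IsTwoLocal K :=
    isTwoLocal_normalizer (S.2.to_le (jS_le _)) (jS_ne_bot S.2 hS)
  set W : Subgroup G := ⨆ k : K, cj (k : G) (omZ (S : Subgroup G)) with hW
  have hWA : ∀ A, Mem (S : Subgroup G) A → W ≤ A := by
    intro A hA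
    refine iSup_le fun k => ?_
    have h1 : cj ((k : G))⁻¹ A ≤ S := ((cj_mono (le_jS hA)).trans
      (cj_of_mem_normalizer (inv_mem k.2)).le).trans (jS_le _)
    have hA' := hA.of_card h1 (ea_cj hA.2.1) (card_cj _ _).ge
    have h2 := cj_mono (g := (k : G)) (hA'.le_of_centralizer (omZ_le _)
      (Thompson.omegaOne_centre_ea 2 _)
      (Subgroup.le_centralizer_iff.1 (h1.trans (le_centralizer_omZ _))))
    rwa [cj_cj, mul_inv_cancel, cj_one] at h2
  have hKW : K ≤ normalizer (W : Set G) := by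
    intro g hg
    rw [mem_normalizer_iff_map_conj_eq]
    refine eq_of_le_of_card_ge ?_ (card_cj g W).ge
    rw [hW, Subgroup.map_iSup]
    refine iSup_le fun k => ?_
    show cj g (cj (k : G) _) ≤ _
    rw [cj_cj]
    exact le_iSup (fun k : K => cj (k : G) (omZ (S : Subgroup G))) (⟨g, hg⟩ * k)
  obtain ⟨A₀, hA₀⟩ := exists_mem (S : Subgroup G)
  have hWS : W ≤ S := (hWA A₀ hA₀).trans hA₀.1
  have hWe : Cfsg.IsElementaryAbelian 2 W := Thompson.ea_mono hA₀.2.1 (hWA A₀ hA₀)
  have hWne : W ≠ ⊥ := fun h => omZ_ne_bot S.2 hS (le_bot_iff.1 (h ▸ by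
    have := le_iSup (fun k : K => cj (k : G) (omZ (S : Subgroup G))) 1
    rwa [OneMemClass.coe_one, cj_one] at this))
  have hd : Data (S : Subgroup G) W := by
    refine ⟨hWS, hSK.trans hKW, hWe,
      fun A hA => (Thompson.ea_iff.1 hA.2.1).1.trans (centralizer_le (hWA A hA)),
      fun A hA hsq hcm => ?_⟩
    have hWK : W ≤ K := hWS.trans hSK
    have hAK : A ≤ K := hA.trans hSK
    have hWn : (W.subgroupOf K).Normal := normal_subgroupOf_of_le_normalizer hKW
    have := (hloc K hKloc).1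
    have hmapW : (W.subgroupOf K).map K.subtype = W := by
      rw [subgroupOf_map_subtype, inf_eq_left.2 hWK]
    have hmapA : (A.subgroupOf K).map K.subtype = A := by
      rw [subgroupOf_map_subtype, inf_eq_left.2 hAK]
    have hcen : ∀ z : K, (z : G) ∈ centralizer (W : Set G) →
        z ∈ centralizer (W.subgroupOf K : Set K) := fun z hz =>
      mem_centralizer_iff.2 fun w hw => Subtype.ext (mem_centralizer_iff.1 hz (w : G) hw)
    have key := sq_of_reduced (hloc K hKloc).2.2 (W.subgroupOf K)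
      ((Thompson.ea_map_iff K.subtype_injective).1 (by rw [hmapW]; exact hWe))
      (fun D hDn hCD ⟨k, hk⟩ => ?_) (A.subgroupOf K)
      (fun a ha => hcen _ (hsq _ ha)) (fun a ha b hb => hcen _ (hcm _ ha _ hb))
    · rwa [← card_map_of_injective (K := A.subgroupOf K) K.subtype_injective,
        ← card_map_of_injective (K := W.subgroupOf K) K.subtype_injective,
        ← card_map_of_injective (K := W.subgroupOf K ⊓ _) K.subtype_injective,
        ← card_map_of_injective (K := A.subgroupOf K ⊓ _) K.subtype_injective,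
        map_inf_centralizer K.subtype_injective, map_inf_centralizer K.subtype_injective,
        hmapW, hmapA] at key
    · refine le_antisymm (fun d hd => ?_) hCD
      have hD : ∀ d ∈ D, (d : G) ∈ centralizer (omZ (S : Subgroup G) : Set G) := by
        intro d hd
        obtain ⟨c, hc, s, hs, rfl⟩ := Thompson.exists_mul_of_relIndex (S.subtype hSK) hCD hk hd
        refine mul_mem ?_ (le_centralizer_omZ _ hs.2)
        refine mem_centralizer_iff.2 fun z hz => ?_
        have hzW : z ∈ W := le_iSup (fun k : K => cj (k : G) (omZ (S : Subgroup G))) 1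
          (by simpa [mem_cj] using hz)
        exact congrArg Subtype.val (mem_centralizer_iff.1 hc ⟨z, hWK hzW⟩ hzW)
      refine mem_centralizer_iff.2 fun w hw => Subtype.ext ?_
      have hwW : (w : G) ∈ W := hw
      have hdW : W ≤ centralizer (zpowers (d : G) : Set G) := by
        refine iSup_le fun k => ?_
        rintro _ ⟨z, hz, rfl⟩
        have h1 := hD _ (hDn.conj_mem d hd k⁻¹)
        have h2 : Commute z ((k : G)⁻¹ * (d : G) * (k : G)) := by
          have := mem_centralizer_iff.1 h1 z hz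
          simp only [InvMemClass.coe_inv, MulMemClass.coe_mul, inv_inv] at this
          exact this
        have h3 : Commute ((k : G) * z * (k : G)⁻¹) (d : G) := commute_conj h2
        rw [mem_centralizer_iff]
        rintro _ ⟨i, rfl⟩
        exact (h3.zpow_right i).eq.symm
      exact (mem_centralizer_iff.1 (hdW hwW) (d : G) (mem_zpowers _)).symm
  refine ⟨normalizer (W : Set G), isTwoLocal_normalizer (S.2.to_le hWS) hWne, fun H hH hSH => ?_⟩
  refine le_of_normalizers (good_of_local hloc hH) hSH (S.subtype hSH) ?_ hd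
    (inf_le_right.trans hKW) inf_le_right
  rw [Sylow.coe_subtype, subgroupOf_map_subtype, inf_eq_left.2 hSH]

theorem exists_lt_normalizer_inf {P T : Subgroup G} (hP : IsPGroup 2 P) (hTP : T < P) :
    T < P ⊓ normalizer (T : Set G) := by
  have : Fact (Nat.Prime 2) := ⟨Nat.prime_two⟩
  have : Group.IsNilpotent P := hP.isNilpotent
  have hlt : T.subgroupOf P < ⊤ := lt_top_iff_ne_top.2 fun h =>
    hTP.not_ge (subgroupOf_eq_top.1 h)
  obtain ⟨x, hx, hxT⟩ := SetLike.exists_of_lt (Group.normalizerCondition_of_isNilpotent _ hlt)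
  have h1 := le_normalizer_map P.subtype ⟨x, hx, rfl⟩
  rw [subgroupOf_map_subtype, inf_eq_left.2 hTP.le] at h1
  exact lt_of_le_of_ne (le_inf hTP.le le_normalizer) fun e =>
    hxT (mem_subgroupOf.2 (e ▸ (⟨x.2, h1⟩ : (x : G) ∈ P ⊓ normalizer (T : Set G))))

/-- A nontrivial 2-subgroup lies in only one maximal 2-local subgroup. -/
theorem maximal_unique (hloc : Hloc G) {T M₁ M₂ : Subgroup G} (hT : IsPGroup 2 T) (hne : T ≠ ⊥)
    (h₁ : Cfsg.IsMaximalTwoLocal M₁) (h₂ : Cfsg.IsMaximalTwoLocal M₂) (hT₁ : T ≤ M₁)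
    (hT₂ : T ≤ M₂) : M₁ = M₂ := by
  have : Fact (Nat.Prime 2) := ⟨Nat.prime_two⟩
  suffices key : ∀ n : ℕ, ∀ T : Subgroup G, IsPGroup 2 T → T ≠ ⊥ → n = Nat.card G - Nat.card T →
      ∀ M₁ M₂, Cfsg.IsMaximalTwoLocal M₁ → Cfsg.IsMaximalTwoLocal M₂ → T ≤ M₁ → T ≤ M₂ →
      M₁ = M₂ from key _ T hT hne rfl M₁ M₂ h₁ h₂ hT₁ hT₂
  intro n
  induction n using Nat.strong_induction_on with
  | _ n ih =>
  intro T hT hne hn
  have hup : ∀ T' : Subgroup G, IsPGroup 2 T' → T < T' →
      ∀ M₁ M₂, Cfsg.IsMaximalTwoLocal M₁ → Cfsg.IsMaximalTwoLocal M₂ → T' ≤ M₁ → T' ≤ M₂ →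
      M₁ = M₂ := by
    intro T' hT' hlt
    have h1 : Nat.card T < Nat.card T' := lt_of_le_of_ne (card_le_card_of_le hlt.le) fun h =>
      hlt.ne (eq_of_le_of_card_ge hlt.le h.ge)
    have h2 : Nat.card T' ≤ Nat.card G := Nat.le_of_dvd Nat.card_pos (card_subgroup_dvd_card T')
    refine ih _ (by omega) T' hT' (fun e => ?_) rfl
    rw [e] at hlt
    exact not_lt_bot hlt
  obtain ⟨S, hTS⟩ := hT.exists_le_sylow
  rcases eq_or_lt_of_le hTS with he | hlt
  · intro M₁ M₂ h₁ h₂ hT₁ hT₂
    obtain ⟨M₀, hM₀, hall⟩ := exists_unique_over_sylow hloc S (he ▸ hne)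
    rw [← h₁.2 M₀ hM₀ (hall M₁ h₁.1 (he ▸ hT₁)), ← h₂.2 M₀ hM₀ (hall M₂ h₂.1 (he ▸ hT₂))]
  · obtain ⟨M₃, h₃, hN₃⟩ := exists_maximal (isTwoLocal_normalizer hT hne)
    suffices hall : ∀ M, Cfsg.IsMaximalTwoLocal M → T ≤ M → M = M₃ from
      fun M₁ M₂ h₁ h₂ hT₁ hT₂ => (hall M₁ h₁ hT₁).trans (hall M₂ h₂ hT₂).symm
    intro M hM hTM
    obtain ⟨P, hP⟩ := (hT.comap_subtype : IsPGroup 2 (T.subgroupOf M)).exists_le_sylow
    set P' := (P : Subgroup M).map M.subtype with hP'
    have hTP : T ≤ P' := by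
      intro x hx
      exact ⟨⟨x, hTM hx⟩, hP hx, rfl⟩
    rcases eq_or_lt_of_le hTP with heP | hltP
    swap
    · have h4 := exists_lt_normalizer_inf (P.2.map M.subtype) hltP
      exact hup _ ((P.2.map M.subtype).to_le inf_le_left) h4 M M₃ hM h₃
        (inf_le_left.trans (map_subtype_le _)) (inf_le_right.trans hN₃)
    -- `T` is a Sylow subgroup of `M`
    have hT' := exists_lt_normalizer_inf S.2 hlt
    have hnorm : ∀ X : Subgroup G, IsPGroup 2 X → X ≠ ⊥ →
        normalizer (T : Set G) ≤ normalizer (X : Set G) → normalizer (X : Set G) ≤ M₃ := by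
      intro X hX hXne hle
      obtain ⟨M₄, h₄, hX₄⟩ := exists_maximal (isTwoLocal_normalizer hX hXne)
      rwa [hup _ (S.2.to_le inf_le_left) hT' M₃ M₄ h₃ h₄ (inf_le_right.trans hN₃)
        ((inf_le_right.trans hle).trans hX₄)]
    have hcj : ∀ g ∈ normalizer (T : Set G), cj g T = T := fun g hg => cj_of_mem_normalizer hg
    refine (hM.2 M₃ h₃.1 (le_of_normalizers (good_of_local hloc hM.1) hTM P heP.symm
      (data_omZ T) (inf_le_right.trans (hnorm _ (hT.to_le (jS_le T)) (jS_ne_bot hT hne)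
        fun g hg => mem_normalizer_jS fun A hA => (cj_mono hA.1).trans (hcj g hg).le))
      (inf_le_right.trans (hnorm _ (hT.to_le (omZ_le T)) (omZ_ne_bot hT hne) fun g hg => ?_)))).symm
    rw [mem_normalizer_iff_map_conj_eq]
    rw [omZ, Thompson.omegaOne_map_of_injective (MulAut.conj g).injective]
    congr 1
    show cj g (T ⊓ centralizer (T : Set G)) = _
    rw [cj_inf, cj_centralizer, hcj g hg]

theorem normalizer_maximal {M : Subgroup G} (hM : Cfsg.IsMaximalTwoLocal M) :
    normalizer (M : Set G) ≤ M := by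
  obtain ⟨T, hT, hne, hMT⟩ := hM.1
  set O := (Cfsg.pCore 2 M).map M.subtype with hO
  have hTO : T ≤ O := by
    have hn : (T.subgroupOf M).Normal := normal_subgroupOf_of_le_normalizer hMT.le
    have h := map_mono (f := M.subtype) (Core.le_pCore (G := M) (N := T.subgroupOf M) hT.comap_subtype)
    rwa [subgroupOf_map_subtype, inf_eq_left.2 (hMT ▸ le_normalizer)] at h
  have hOp : IsPGroup 2 O := Core.pCore_isPGroup.map _
  have hloc' := isTwoLocal_normalizer hOp fun e => hne (le_bot_iff.1 (hTO.trans e.le))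
  have hMO : M ≤ normalizer (O : Set G) := by
    intro x hx
    have := le_normalizer_map M.subtype
      ⟨⟨x, hx⟩, (by rw [normalizer_eq_top]; exact mem_top _ : (⟨x, hx⟩ : M) ∈
        normalizer (Cfsg.pCore 2 M : Set M)), rfl⟩
    exact this
  intro g hg
  rw [← hM.2 _ hloc' hMO]
  rw [mem_normalizer_iff_map_conj_eq]
  set e : M ≃* M := (M.equivMapOfInjective (MulAut.conj g).toMonoidHom (MulAut.conj g).injective).trans
    (MulEquiv.subgroupCongr (cj_of_mem_normalizer hg)) with he
  have h1 := congrArg (fun X : Subgroup M => X.map M.subtype) (Core.map_pCore (p := 2) e)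
  rw [Subgroup.map_map] at h1
  refine Eq.trans ?_ h1
  rw [hO, Subgroup.map_map]
  rfl

theorem strongly_embedded (heven : Even (Nat.card G)) (hO : Cfsg.pCore 2 G = ⊥) (hloc : Hloc G)
    {M : Subgroup G} (hM : Cfsg.IsMaximalTwoLocal M) : Cfsg.IsStronglyEmbedded M := by
  have : Fact (Nat.Prime 2) := ⟨Nat.prime_two⟩
  obtain ⟨T, hT, hne, hMT⟩ := hM.1
  refine ⟨fun h => hne ?_, ?_, fun g hg => ?_⟩
  · have : T.Normal := normalizer_eq_top_iff.1 (hMT.symm.trans h)
    exact le_bot_iff.1 (hO ▸ Core.le_pCore hT)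
  · have := (Subgroup.nontrivial_iff_ne_bot T).2 hne
    obtain ⟨n, hn0, hn⟩ := hT.nontrivial_iff_card.1 this
    rw [even_iff_two_dvd]
    exact (dvd_pow_self 2 (by omega)).trans
      (hn ▸ card_dvd_of_le (hMT ▸ le_normalizer : T ≤ M))
  · rw [← Nat.not_even_iff_odd, even_iff_two_dvd]
    intro hd
    obtain ⟨t, ht⟩ := exists_prime_orderOf_dvd_card'
      (G := (M ⊓ M.map (MulAut.conj g).toMonoidHom : Subgroup G)) 2 hd
    have ht2 : orderOf (t : G) = 2 := by rw [Subgroup.orderOf_coe]; exact ht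
    have hp : IsPGroup 2 (zpowers (t : G)) :=
      IsPGroup.of_card (n := 1) (by rw [Nat.card_zpowers, ht2, pow_one])
    have hne' : zpowers (t : G) ≠ ⊥ := by
      rw [Ne, zpowers_eq_bot]
      intro e
      rw [e, orderOf_one] at ht2
      norm_num at ht2
    have he := maximal_unique hloc hp hne' hM (IsMaximalTwoLocal.conj hM g)
      (zpowers_le.2 t.2.1) (zpowers_le.2 t.2.2)
    exact hg (normalizer_maximal hM (mem_normalizer_iff_map_conj_eq.2 he.symm))

end Cfsg.Agent.SfFree
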