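import Cfsg.Agent.S4Free.Abelian
import Mathlib.GroupTheory.Index

/-!
# Elements of odd order inverted by a largest elementary abelian subgroup normalize `W`

`mem_normalizer_W` : if `f` of odd order prime to 3 is inverted by `a ∈ A` and normalizes `O₂(L) B`,
where `A` is a largest elementary abelian subgroup and `|A : B| ≤ 2`, then `f` normalizes `W`.
-/

set_option autoImplicit false

namespace Cfsg.Agent.SfFree

open Subgroup
open scoped commutatorElement

variable {L : Type*} [Group L] [Finite L]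

/-- The closure of a pair commuting and of order two modulo the centralizer of `W`. -/
theorem sq_pair {W : Subgroup L} {x y : L} (hx : x ∈ normalizer (W : Set L))
    (hy : y ∈ normalizer (W : Set L)) (hx2 : x * x ∈ centralizer (W : Set L))
    (hy2 : y * y ∈ centralizer (W : Set L)) (hxy : ⁅x, y⁆ ∈ centralizer (W : Set L)) :
    (∀ a ∈ closure ({x, y} : Set L), a * a ∈ centralizer (W : Set L)) ∧
      ∀ a ∈ closure ({x, y} : Set L), ∀ b ∈ closure ({x, y} : Set L),
        ⁅a, b⁆ ∈ centralizer (W : Set L) := by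
  set N := normalizer (W : Set L)
  set C := (centralizer (W : Set L)).subgroupOf N
  set q := QuotientGroup.mk' C
  have hq : ∀ z : N, q z = 1 ↔ (z : L) ∈ centralizer (W : Set L) := fun z =>
    QuotientGroup.eq_one_iff (N := C) z
  set x' : N := ⟨x, hx⟩
  set y' : N := ⟨y, hy⟩
  have hc : Commute (q x') (q y') := commutatorElement_eq_one_iff_commute.1 (by
    rw [← map_commutatorElement, hq]; exact hxy)
  have hE : Cfsg.IsElementaryAbelian 2 (closure ({q x', q y'} : Set (N ⧸ C))) := by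
    refine Thompson.ea_closure ?_ ?_
    · rintro z (rfl | rfl) <;> refine mem_centralizer_iff.2 ?_ <;> rintro w (rfl | rfl)
      exacts [rfl, hc.eq.symm, hc.eq, rfl]
    · rintro z (rfl | rfl) <;> rw [pow_two, ← map_mul, hq]
      exacts [hx2, hy2]
  have hlift : ∀ a ∈ closure ({x, y} : Set L), ∃ a' : N, (a' : L) = a ∧
      q a' ∈ closure ({q x', q y'} : Set (N ⧸ C)) := by
    intro a ha
    have e : closure ({x, y} : Set L) = (closure ({x', y'} : Set N)).map N.subtype := by
      rw [MonoidHom.map_closure, Set.image_pair]; rfl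
    obtain ⟨a', ha', rfl⟩ := e ▸ ha
    refine ⟨a', rfl, ?_⟩
    have := mem_map_of_mem q ha'
    rwa [MonoidHom.map_closure, Set.image_pair] at this
  constructor
  · intro a ha
    obtain ⟨a', rfl, h⟩ := hlift a ha
    have := ea_sq hE h
    rw [← map_mul, hq] at this
    exact this
  · intro a ha b hb
    obtain ⟨a', rfl, h⟩ := hlift a ha
    obtain ⟨b', rfl, h'⟩ := hlift b hb
    have := commutatorElement_eq_one_iff_commute.2 (ea_commute hE h h')
    rw [← map_commutatorElement, hq] at this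
    exact this

omit [Finite L] in
theorem commute_conj {g x y : L} (h : Commute x (g⁻¹ * y * g)) : Commute (g * x * g⁻¹) y := by
  calc g * x * g⁻¹ * y = g * (x * (g⁻¹ * y * g)) * g⁻¹ := by group
    _ = y * (g * x * g⁻¹) := by rw [h.eq]; group

omit [Finite L] in
theorem commute_conj' {g x y : L} (h : Commute (g * x * g⁻¹) y) : Commute x (g⁻¹ * y * g) := by
  calc x * (g⁻¹ * y * g) = g⁻¹ * ((g * x * g⁻¹) * y) * g := by group
    _ = g⁻¹ * y * g * x := by rw [h.eq]; group

theorem mem_normalizer_W (hL : Good L) (S : Sylow 2 L) {W : Subgroup L}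
    (hd : Data (S : Subgroup L) W) {A B : Subgroup L} {a f : L} (hA : Mem (S : Subgroup L) A)
    (hBA : B ≤ A) (ha : a ∈ A) (hcos : ∀ x ∈ A, x ∈ B ∨ a⁻¹ * x ∈ B)
    (hAQ : A ⊓ Cfsg.pCore 2 L ≤ B) (hfo : Odd (orderOf f)) (h3 : ¬ 3 ∣ orderOf f)
    (haf : a * f * a⁻¹ = f⁻¹)
    (hfN : f ∈ normalizer ((Cfsg.pCore 2 L ⊔ B : Subgroup L) : Set L)) :
    f ∈ normalizer (W : Set L) := by
  have : Fact (Nat.Prime 2) := ⟨Nat.prime_two⟩
  set Q := Cfsg.pCore 2 L with hQ
  set Q₁ := Q ⊔ B with hQ₁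
  have hQS : Q ≤ S := Core.pCore_le_sylow S
  have hQ₁S : Q₁ ≤ S := sup_le hQS (hBA.trans hA.1)
  have hBQ₁ : B ≤ Q₁ := le_sup_right
  have hfk : ∀ k : ℤ, f ^ k ∈ normalizer (Q₁ : Set L) := fun k => zpow_mem hfN k
  -- the conjugates of `W`
  let Wk : ℤ → Subgroup L := fun k => cj (f ^ k) W
  have hWQ : ∀ k, Wk k ≤ Q := fun k => cj_le_core hL S hd _
  set V : Subgroup L := ⨆ k, Wk k with hV
  have hWV : ∀ k, Wk k ≤ V := le_iSup Wk
  have hW0 : Wk 0 = W := by show cj _ W = W; rw [zpow_zero, cj_one]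
  have hVQ : V ≤ Q := iSup_le hWQ
  have hVe : Cfsg.IsElementaryAbelian 2 V := by
    rw [hV, Subgroup.iSup_eq_closure]
    refine Thompson.ea_closure (fun x hx => mem_centralizer_iff.2 fun y hy => ?_) fun x hx => ?_
    · obtain ⟨i, hi⟩ := Set.mem_iUnion.1 hx
      obtain ⟨j, hj⟩ := Set.mem_iUnion.1 hy
      exact mem_centralizer_iff.1 (cj_commute hL S hd _ _ hi) y hj
    · obtain ⟨i, hi⟩ := Set.mem_iUnion.1 hx
      exact (ea_cj hd.ea).2 x hi
  have hfV : f ∈ normalizer (V : Set L) := by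
    refine mem_normalizer_iff_map_conj_eq.2 (eq_of_le_of_card_ge ?_ (card_cj f V).ge)
    rw [hV, Subgroup.map_iSup]
    refine iSup_le fun k => ?_
    show cj f (cj (f ^ k) W) ≤ _
    rw [cj_cj, ← zpow_one_add]
    exact hWV (1 + k)
  -- largest subgroups inside `Q₁` centralize `V`
  have hmem : ∀ K, Mem (S : Subgroup L) K → K ≤ Q₁ → K ≤ centralizer (V : Set L) := by
    intro K hK hKQ
    rw [← Subgroup.le_centralizer_iff]
    refine iSup_le fun k => ?_
    rw [Subgroup.le_centralizer_iff]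
    have h1 : cj (f ^ k)⁻¹ K ≤ Q₁ :=
      (cj_mono hKQ).trans (cj_of_mem_normalizer (inv_mem (hfk k))).le
    have h2 := cj_mono (g := f ^ k)
      (hd.central _ (hK.of_card (h1.trans hQ₁S) (ea_cj hK.2.1) (card_cj _ _).ge))
    rwa [cj_cj, cj_centralizer, mul_inv_cancel, cj_one] at h2
  have hBV : ∀ k, ∀ z ∈ Q₁, ∀ w ∈ Wk k, z * w * z⁻¹ ∈ Wk k := by
    intro k z hz w hw
    rw [mem_cj] at hw ⊢
    have hz' : (f ^ k)⁻¹ * z * f ^ k ∈ Q₁ := by
      simpa using (mem_normalizer_iff.1 (inv_mem (hfk k)) z).1 hz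
    have := (mem_normalizer_iff.1 (hd.normal (hQ₁S hz')) _).1 hw
    convert this using 1
    group
  set U := V ⊓ centralizer (B : Set L) with hU
  have hWU : W ≤ U := le_inf (hW0 ▸ hWV 0) ((Subgroup.le_centralizer_iff).1
    (hBA.trans (hd.central A hA)))
  have hAB : Nat.card A ≤ 2 * Nat.card B :=
    card_le_mul_of_relIndex hBA (relIndex_le_two ha hcos)
  have hcomA : ∀ z : L, Commute z a → (∀ x ∈ B, Commute z x) → z ∈ centralizer (A : Set L) := by
    refine fun z hza hzB => mem_centralizer_iff.2 fun x hx => ?_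
    rcases hcos x hx with h | h
    · exact (hzB x h).eq.symm
    · have := hza.mul_right (hzB _ h)
      rw [mul_inv_cancel_left] at this
      exact this.eq.symm
  have hUA : U ⊓ centralizer (zpowers a : Set L) ≤ B := by
    have h := hA.le_of_centralizer (X := U ⊓ centralizer (zpowers a : Set L))
      ((inf_le_left.trans inf_le_left).trans (hVQ.trans hQS))
      (Thompson.ea_mono hVe (inf_le_left.trans inf_le_left)) fun z hz =>
      hcomA z (mem_centralizer_iff.1 hz.2 a (mem_zpowers a)).symm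
        fun x hx => (mem_centralizer_iff.1 hz.1.2 x hx).symm
    exact fun z hz => hAQ ⟨h hz, hVQ hz.1.1⟩
  have ha2 : a * a = 1 := ea_sq hA.2.1 ha
  have hff : ∀ k : ℤ, f ^ k * a * (f ^ k)⁻¹ * a = f ^ (2 * k) := by
    intro k
    have e : a * (f ^ k)⁻¹ * a⁻¹ = f ^ k := by
      rw [← zpow_neg, ← conj_zpow, haf, inv_zpow, ← zpow_neg, neg_neg]
    calc f ^ k * a * (f ^ k)⁻¹ * a = f ^ k * (a * (f ^ k)⁻¹ * a⁻¹) * (a * a) := by group
      _ = f ^ k * f ^ k := by rw [e, ha2, mul_one]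
      _ = _ := by rw [two_mul, zpow_add]
  have h2c := coprime_two_of_odd hfo
  have h3c : (3 : ℕ).Coprime (orderOf f) := (Nat.Prime.coprime_iff_not_dvd Nat.prime_three).2 h3
  -- exponents `±1, ±2, ±3`
  let Small : ℤ → Prop := fun k => k = 1 ∨ k = 2 ∨ k = 3 ∨ k = -1 ∨ k = -2 ∨ k = -3
  have hgen : ∀ k, Small k → ∀ z : L, Commute (f ^ (2 * k)) z → Commute f z := by
    intro k hk z hz
    have key : ∀ m : ℕ, m.Coprime (orderOf f) → Commute (f ^ (m : ℤ)) z → Commute f z := by
      intro m hm hmz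
      obtain ⟨i, hi⟩ := mem_zpowers_iff.1 (self_mem_zpowers_pow hm)
      rw [← hi]
      rw [zpow_natCast] at hmz
      exact hmz.zpow_left i
    have h6 : (6 : ℕ).Coprime (orderOf f) := Nat.Coprime.mul_left (m := 2) (n := 3) h2c.symm h3c
    have h4 : (4 : ℕ).Coprime (orderOf f) := Nat.Coprime.mul_left (m := 2) (n := 2) h2c.symm h2c.symm
    rcases hk with rfl | rfl | rfl | rfl | rfl | rfl
    · exact key 2 h2c.symm hz
    · exact key 4 h4 hz
    · exact key 6 h6 hz
    · exact key 2 h2c.symm (by rw [show ((2 : ℕ) : ℤ) = -(2 * -1) by norm_num, zpow_neg]; exact hz.inv_left)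
    · exact key 4 h4 (by rw [show ((4 : ℕ) : ℤ) = -(2 * -2) by norm_num, zpow_neg]; exact hz.inv_left)
    · exact key 6 h6 (by rw [show ((6 : ℕ) : ℤ) = -(2 * -3) by norm_num, zpow_neg]; exact hz.inv_left)
  by_cases hUC : U ≤ centralizer (zpowers a : Set L)
  swap
  · -- `U` is not centralized by `a`
    have hne : ¬ U ≤ B := fun h => hUC (h.trans (hBA.trans
      ((Thompson.ea_iff.1 hA.2.1).1.trans (centralizer_le (zpowers_le.2 ha)))))
    have hKe : Cfsg.IsElementaryAbelian 2 (B ⊔ U : Subgroup L) :=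
      Thompson.ea_sup (Thompson.ea_mono hA.2.1 hBA) (Thompson.ea_mono hVe inf_le_left)
        (Subgroup.le_centralizer_iff.1 inf_le_right)
    have hKQ : B ⊔ U ≤ Q₁ := sup_le hBQ₁ ((inf_le_left.trans hVQ).trans le_sup_left)
    have h1 : 2 * Nat.card B ≤ Nat.card (B ⊔ U : Subgroup L) :=
      two_mul_card_le le_sup_left fun h => hne (le_sup_right.trans h)
    have hK := hA.of_card (hKQ.trans hQ₁S) hKe (hAB.trans h1)
    have hUV : U = V := inf_eq_left.2
      (Subgroup.le_centralizer_iff.1 (le_sup_left.trans (hmem _ hK hKQ)))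
    have hidx : (V ⊓ centralizer (zpowers a : Set L)).relIndex V ≤ 2 := by
      refine relIndex_le_of_card inf_le_left ?_
      have h2 := card_mul_card_le B V
      rw [hUV] at h1 hK hKQ hKe
      have h4 : Nat.card (B ⊔ V : Subgroup L) ≤ 2 * Nat.card B :=
        (hA.2.2 _ (hKQ.trans hQ₁S) hKe).trans hAB
      have h5 : Nat.card (B ⊓ V : Subgroup L) ≤
          Nat.card (V ⊓ centralizer (zpowers a : Set L) : Subgroup L) :=
        card_le_card_of_le (le_inf inf_le_right (inf_le_left.trans (hBA.trans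
          ((Thompson.ea_iff.1 hA.2.1).1.trans (centralizer_le (zpowers_le.2 ha))))))
      refine Nat.le_of_mul_le_mul_left (c := Nat.card B) ?_ Nat.card_pos
      calc Nat.card B * Nat.card V ≤ _ := h2
        _ ≤ 2 * Nat.card B * Nat.card (V ⊓ centralizer (zpowers a : Set L) : Subgroup L) :=
            Nat.mul_le_mul h4 h5
        _ = _ := by ring
    set X := V ⊓ centralizer (zpowers a : Set L) with hX
    have hX'2 : (cj f X).relIndex V ≤ 2 := by
      refine relIndex_le_of_card ((cj_mono inf_le_left).trans (cj_of_mem_normalizer hfV).le) ?_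
      rw [card_cj]
      exact card_le_mul_of_relIndex inf_le_left hidx
    have hfX : f ∈ centralizer ((X ⊓ cj f X : Subgroup L) : Set L) := by
      refine mem_centralizer_iff.2 fun z hz => (hgen 1 (Or.inl rfl) z ?_).eq.symm
      rw [← hff 1, zpow_one]
      have h1 : Commute a z := mem_centralizer_iff.1 hz.1.2 a (mem_zpowers a)
      have h2 : Commute (f * a * f⁻¹) z := by
        have h3 : Commute a (f⁻¹ * z * f) :=
          mem_centralizer_iff.1 (mem_cj.1 hz.2).2 a (mem_zpowers a)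
        have := h3.map (MulAut.conj f).toMonoidHom
        simpa [mul_assoc] using this
      exact h2.mul_left h1
    have := mem_centralizer_of_small_index ((Core.pCore_isPGroup (p := 2) (G := L)).to_le hVQ)
      (inf_le_left.trans inf_le_left) (relIndex_inf_le.trans (Nat.mul_le_mul hidx hX'2)) hfo h3
      hfV hfX
    exact centralizer_le_normalizer _ (centralizer_le (hW0 ▸ hWV 0) this)
  -- `U` is centralized by `a`
  have hUB : U ≤ B := fun z hz => hUA ⟨hz, hUC hz⟩
  have hC : ∀ k, Small k → ∀ z ∈ U, (f ^ k)⁻¹ * z * f ^ k ∈ U → Commute f z := by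
    intro k hk z hz hzk
    refine hgen k hk z ?_
    rw [← hff k]
    have h1 : Commute a z := mem_centralizer_iff.1 (hUC hz) a (mem_zpowers a)
    have h2 : Commute (f ^ k * a * (f ^ k)⁻¹) z := by
      exact commute_conj (mem_centralizer_iff.1 (hUC hzk) a (mem_zpowers a))
    exact h2.mul_left h1
  by_contra hcon
  have hnle : ∀ k, Small k → ¬ Wk k ≤ U := by
    intro k hk hle
    refine hcon (centralizer_le_normalizer _ (mem_centralizer_iff.2 fun w hw => ?_))
    have hx : f ^ k * w * (f ^ k)⁻¹ ∈ U := hle (mem_cj.2 (by simpa [mul_assoc] using hw))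
    have h := hC k hk _ hx (by simpa [mul_assoc] using hWU hw)
    have h' := h.zpow_left k
    have e : f ^ k * w * (f ^ k)⁻¹ = w := by
      have := h'.eq
      calc f ^ k * w * (f ^ k)⁻¹ = (f ^ k)⁻¹ * (f ^ k * (f ^ k * w * (f ^ k)⁻¹)) := by group
        _ = _ := by rw [this]; group
    rw [e] at h
    exact h.eq.symm
  set B₀ := B ⊓ centralizer (V : Set L) with hB₀
  -- the step for one conjugate
  have hstep : ∀ k, Small k →
      Nat.card B ≤ 2 * Nat.card B₀ ∧ Nat.card (Wk k) ≤ 4 * Nat.card (Wk k ⊓ U : Subgroup L) ∧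
        ∀ v ∈ V, ∃ u ∈ U, ∃ w ∈ Wk k, v = u * w := by
    intro k hk
    set C := B ⊓ centralizer (Wk k : Set L) with hCdef
    have hWk : Cfsg.IsElementaryAbelian 2 (Wk k) := ea_cj hd.ea
    have h0 : Nat.card B ^ 2 * Nat.card (Wk k ⊓ centralizer (B : Set L) : Subgroup L) ≤
        Nat.card (Wk k) * Nat.card C ^ 2 := by
      set g := f ^ k with hg
      have hB' : cj g⁻¹ B ≤ S := ((cj_mono hBQ₁).trans
        (cj_of_mem_normalizer (inv_mem (hfk k))).le).trans hQ₁S
      have := hd.sq_ea hB' (ea_cj (Thompson.ea_mono hA.2.1 hBA))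
      rw [← card_cj g (W ⊓ _), ← card_cj g (cj g⁻¹ B ⊓ _), cj_inf, cj_inf, cj_centralizer,
        cj_centralizer, cj_cj, mul_inv_cancel, cj_one, card_cj, ← card_cj g W] at this
      exact this
    have hUW : (Wk k ⊓ centralizer (B : Set L) : Subgroup L) = Wk k ⊓ U := by
      rw [hU, ← inf_assoc, inf_eq_left.2 (hWV k)]
    rw [hUW] at h0
    have hb0 : 2 * Nat.card C ≤ Nat.card B := two_mul_card_le inf_le_left fun h =>
      hnle k hk (le_inf (hWV k) (Subgroup.le_centralizer_iff.1 (h.trans inf_le_right)))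
    have hKe : Cfsg.IsElementaryAbelian 2 (C ⊔ Wk k : Subgroup L) :=
      Thompson.ea_sup (Thompson.ea_mono hA.2.1 (inf_le_left.trans hBA)) hWk inf_le_right
    have hKQ : C ⊔ Wk k ≤ Q₁ := sup_le (inf_le_left.trans hBQ₁) ((hWQ k).trans le_sup_left)
    have hK1 : Nat.card (C ⊔ Wk k : Subgroup L) ≤ 2 * Nat.card B :=
      (hA.2.2 _ (hKQ.trans hQ₁S) hKe).trans hAB
    have h1 := card_mul_card_le C (Wk k)
    have h2 : Nat.card (C ⊓ Wk k : Subgroup L) ≤ Nat.card (Wk k ⊓ U : Subgroup L) := by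
      refine card_le_card_of_le (le_inf inf_le_right (le_inf (inf_le_right.trans (hWV k)) ?_))
      exact (inf_le_left.trans inf_le_left).trans
        ((Thompson.ea_iff.1 (Thompson.ea_mono hA.2.1 hBA)).1)
    set b := Nat.card B
    set c := Nat.card C
    set p := Nat.card (Wk k)
    set r := Nat.card (Wk k ⊓ U : Subgroup L)
    have hr : 0 < r := Nat.card_pos
    have hc : 0 < c := Nat.card_pos
    have hb : 0 < b := Nat.card_pos
    have h3' : c * p ≤ 2 * b * r := h1.trans (Nat.mul_le_mul hK1 h2)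
    have hbc : b = 2 * c := by
      refine le_antisymm ?_ hb0
      refine Nat.le_of_mul_le_mul_left (c := b * r * c) ?_ (Nat.mul_pos (Nat.mul_pos hb hr) hc)
      calc b * r * c * b = c * (b ^ 2 * r) := by ring
        _ ≤ c * (p * c ^ 2) := Nat.mul_le_mul le_rfl h0
        _ = (c * p) * c ^ 2 := by ring
        _ ≤ 2 * b * r * c ^ 2 := Nat.mul_le_mul h3' le_rfl
        _ = _ := by ring
    have hp4 : p ≤ 4 * r := by
      refine Nat.le_of_mul_le_mul_left (c := c) ?_ hc
      calc c * p ≤ 2 * b * r := h3'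
        _ = _ := by rw [hbc]; ring
    have h4r : 4 * r ≤ p := by
      refine Nat.le_of_mul_le_mul_left (c := c ^ 2) ?_ (pow_pos hc 2)
      calc c ^ 2 * (4 * r) = b ^ 2 * r := by rw [hbc]; ring
        _ ≤ p * c ^ 2 := h0
        _ = _ := by ring
    have hK2 : Nat.card A ≤ Nat.card (C ⊔ Wk k : Subgroup L) := by
      refine hAB.trans (Nat.le_of_mul_le_mul_right (c := r) ?_ hr)
      calc 2 * b * r = c * (4 * r) := by rw [hbc]; ring
        _ ≤ c * p := Nat.mul_le_mul le_rfl h4r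
        _ ≤ _ := h1.trans (Nat.mul_le_mul le_rfl h2)
    have hK := hA.of_card (hKQ.trans hQ₁S) hKe hK2
    have hKV := hmem _ hK hKQ
    have hVK : V ≤ C ⊔ Wk k :=
      hK.le_of_centralizer (hVQ.trans hQS) hVe (Subgroup.le_centralizer_iff.1 hKV)
    have hCB : C = B₀ := le_antisymm (le_inf inf_le_left (le_sup_left.trans hKV))
      (inf_le_inf_left _ (centralizer_le (hWV k)))
    refine ⟨by rw [← hCB]; exact hbc.le, hp4, fun v hv => ?_⟩
    obtain ⟨β, hβ, w, hw, rfl⟩ := (Coprime.mem_sup_of_le_normalizer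
      ((Subgroup.le_centralizer_iff.1 (inf_le_right : C ≤ centralizer (Wk k : Set L))).trans
        (centralizer_le_normalizer _))).1 (hVK hv)
    refine ⟨β, ⟨?_, mem_centralizer_iff.2 fun x hx => ea_commute hA.2.1 (hBA hx) (hBA hβ.1)⟩,
      w, hw, rfl⟩
    simpa using V.mul_mem hv (V.inv_mem (hWV k hw))
  have hB₀2 : ∀ b ∈ B, b ∉ B₀ → ∀ x ∈ B, x ∈ B₀ ∨ b⁻¹ * x ∈ B₀ := by
    intro b hb hb0 x hx
    have hi : (B₀.subgroupOf B).index = 2 := by
      have h1 : B₀.relIndex B ≤ 2 := relIndex_le_of_card inf_le_left (hstep 1 (Or.inl rfl)).1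
      have h2 : B₀.relIndex B ≠ 1 := fun h => hb0 (relIndex_eq_one.1 h hb)
      have h3 : B₀.relIndex B ≠ 0 := FiniteIndex.index_ne_zero
      show B₀.relIndex B = 2
      omega
    by_cases hx0 : x ∈ B₀
    · exact Or.inl hx0
    · refine Or.inr ((mul_mem_iff_of_index_two hi (a := (⟨b, hb⟩ : B)⁻¹) (b := ⟨x, hx⟩)).2 ?_)
      constructor
      · intro h; exact absurd (by simpa [mem_subgroupOf] using h) hb0
      · intro h; exact absurd (by simpa [mem_subgroupOf] using h) hx0
  obtain ⟨b, hb, hb0⟩ : ∃ b ∈ B, b ∉ B₀ := by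
    by_contra! h
    exact hnle 1 (Or.inl rfl) (le_inf (hWV 1) ((Subgroup.le_centralizer_iff.1
      (fun x hx => (h x hx).2)).trans' (hWV 1)))
  have hUb : ∀ z ∈ V, Commute b z → z ∈ U := by
    refine fun z hz hbz => ⟨hz, mem_centralizer_iff.2 fun x hx => ?_⟩
    rcases hB₀2 b hb hb0 x hx with h | h
    · exact (mem_centralizer_iff.1 h.2 z hz).symm
    · have h' : Commute (b⁻¹ * x) z := (mem_centralizer_iff.1 h.2 z hz).symm
      have := hbz.mul_left h'
      rw [mul_inv_cancel_left] at this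
      exact this.eq
  have hbU : ∀ z ∈ U, Commute b z := fun z hz => mem_centralizer_iff.1 hz.2 b hb
  have hVc : ∀ x ∈ V, ∀ y ∈ V, Commute x y := fun x hx y hy => ea_commute hVe hx hy
  -- conjugates of `b`
  let bk : ℤ → L := fun k => f ^ k * b * (f ^ k)⁻¹
  have hbQ : ∀ k, bk k ∈ Q₁ := fun k => (mem_normalizer_iff.1 (hfk k) b).1 (hBQ₁ hb)
  have hcomv : ∀ k j, Small (j - k) → ∀ v ∈ V, bk k * v * (bk k)⁻¹ * v⁻¹ ∈ Wk j := by
    intro k j hjk v hv
    have hv' : (f ^ k)⁻¹ * v * f ^ k ∈ V := by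
      simpa using (mem_normalizer_iff.1 (inv_mem (zpow_mem hfV k)) v).1 hv
    obtain ⟨u, hu, w, hw, he⟩ := (hstep _ hjk).2.2 _ hv'
    have hc : b * ((f ^ k)⁻¹ * v * f ^ k) * b⁻¹ * ((f ^ k)⁻¹ * v * f ^ k)⁻¹ ∈ Wk (j - k) := by
      rw [he]
      have hm := (Wk (j - k)).mul_mem (hBV (j - k) b (hBQ₁ hb) w hw) ((Wk (j - k)).inv_mem hw)
      have hcu : Commute u (b * w * b⁻¹ * w⁻¹) := hVc u hu.1 _ (hWV _ hm)
      rwa [show b * (u * w) * b⁻¹ * (u * w)⁻¹ = b * w * b⁻¹ * w⁻¹ by
        calc b * (u * w) * b⁻¹ * (u * w)⁻¹ = (b * u) * w * b⁻¹ * w⁻¹ * u⁻¹ := by group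
          _ = u * (b * w * b⁻¹ * w⁻¹) * u⁻¹ := by rw [(hbU u hu).eq]; group
          _ = _ := by rw [hcu.eq, mul_inv_cancel_right]]
    rw [show bk k * v * (bk k)⁻¹ * v⁻¹ = f ^ k * (b * ((f ^ k)⁻¹ * v * f ^ k) * b⁻¹ *
      ((f ^ k)⁻¹ * v * f ^ k)⁻¹) * (f ^ k)⁻¹ by simp only [bk]; group]
    rw [show Wk j = cj (f ^ k) (Wk (j - k)) by
      simp only [Wk]; rw [cj_cj, ← zpow_add]; congr 2; ring]
    exact mem_cj.2 (by simpa [mul_assoc] using hc)
  have hbW : ∀ k, ∀ w ∈ Wk k, Commute (bk k) w := by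
    intro k w hw
    exact commute_conj (hbU _ (hWU (mem_cj.1 hw)))
  have hnW : ∀ k, Small k → bk k ∉ centralizer (W : Set L) := by
    intro k hk h
    refine hnle (-k) ?_ fun z hz => hUb z (hWV _ hz) ?_
    · rcases hk with rfl | rfl | rfl | rfl | rfl | rfl <;> simp [Small]
    · have h1 : f ^ k * z * (f ^ k)⁻¹ ∈ W := by
        have := mem_cj.1 hz
        rwa [zpow_neg, inv_inv] at this
      have := commute_conj' (g := f ^ k) (show Commute (bk k) _ from (mem_centralizer_iff.1 h _ h1).symm)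
      simpa [mul_assoc] using this
  have hfix : ∀ z ∈ U, Commute f z → ∀ k, Commute (bk k) z := by
    intro z hz hfz k
    have h := hfz.zpow_left k
    exact (h.mul_left (hbU z hz)).mul_left h.inv_left
  have hWF : Nat.card W ≤ 4 * Nat.card (W ⊓ centralizer (zpowers f : Set L) : Subgroup L) := by
    have h1 := (hstep (-1) (by simp [Small])).2.1
    rw [← card_cj f (Wk (-1) ⊓ U), cj_inf] at h1
    have e : cj f (Wk (-1)) = W := by
      show cj f (cj _ W) = W
      rw [cj_cj, zpow_neg_one, mul_inv_cancel, cj_one]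
    rw [e, card_cj] at h1
    refine h1.trans (Nat.mul_le_mul le_rfl (card_le_card_of_le (le_inf inf_le_left fun z hz => ?_)))
    have hfz : Commute f z := hC 1 (Or.inl rfl) z (hWU hz.1) (by
      rw [zpow_one]; exact mem_cj.1 hz.2)
    rw [mem_centralizer_iff]
    rintro _ ⟨i, rfl⟩
    exact (hfz.zpow_left i).eq
  have hb2 : ∀ k, bk k * bk k = 1 := by
    intro k
    simp only [bk]
    rw [show f ^ k * b * (f ^ k)⁻¹ * (f ^ k * b * (f ^ k)⁻¹) = f ^ k * (b * b) * (f ^ k)⁻¹ by group,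
      ea_sq hA.2.1 (hBA hb), mul_one, mul_inv_cancel]
  have hpair : ∀ k l, Small k → Small l → Small (l - k) → Small (k - l) →
      bk k * bk l ∈ centralizer (W : Set L) := by
    intro k l hk hl hlk hkl
    have hN : ∀ i, bk i ∈ normalizer (W : Set L) := fun i => hd.normal (hQ₁S (hbQ i))
    have hxy : ⁅bk k, bk l⁆ ∈ centralizer (W : Set L) := by
      refine centralizer_le (hW0 ▸ hWV 0) ?_
      rw [mem_centralizer_iff]
      intro v hv
      set x := bk k
      set y := bk l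
      set c₁ := x * v * x⁻¹ * v⁻¹ with hc1
      set c₂ := y * v * y⁻¹ * v⁻¹ with hc2
      have h1 : c₁ ∈ Wk l := hcomv k l hlk v hv
      have h2 : c₂ ∈ Wk k := hcomv l k hkl v hv
      have e1 : Commute y c₁ := hbW l _ h1
      have e2 : Commute x c₂ := hbW k _ h2
      have e3 : Commute c₁ c₂ := hVc _ (hWV _ h1) _ (hWV _ h2)
      have : (x * y) * v * (x * y)⁻¹ = (y * x) * v * (y * x)⁻¹ := by
        calc (x * y) * v * (x * y)⁻¹ = x * c₂ * v * x⁻¹ := by rw [hc2]; group
          _ = c₂ * (c₁ * v) := by rw [e2.eq, hc1]; group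
          _ = c₁ * (c₂ * v) := by rw [← mul_assoc, ← e3.eq, mul_assoc]
          _ = y * c₁ * v * y⁻¹ := by rw [e1.eq, hc2]; group
          _ = _ := by rw [hc1]; group
      have hxi : x⁻¹ = x := inv_eq_of_mul_eq_one_left (hb2 k)
      have hyi : y⁻¹ = y := inv_eq_of_mul_eq_one_left (hb2 l)
      have e4 : y * x = (x * y)⁻¹ := by rw [mul_inv_rev, hxi, hyi]
      rw [e4, inv_inv] at this
      rw [commutatorElement_def, hxi, hyi, show x * y * x * y = (x * y) * (x * y) by group]
      calc v * ((x * y) * (x * y)) = (x * y) * ((x * y)⁻¹ * v * (x * y)) * (x * y) := by group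
        _ = (x * y) * ((x * y) * v * (x * y)⁻¹) * (x * y) := by rw [this]
        _ = _ := by group
    obtain ⟨hs1, hs2⟩ := sq_pair (hN k) (hN l) (by rw [hb2]; exact one_mem _)
      (by rw [hb2]; exact one_mem _) hxy
    set X := closure ({bk k, bk l} : Set L) with hX
    have hXS : X ≤ S := (closure_le _).2 (by rintro z (rfl | rfl) <;> exact hQ₁S (hbQ _))
    have h := hd.sq X hXS hs1 hs2
    have hF : W ⊓ centralizer (zpowers f : Set L) ≤ W ⊓ centralizer (X : Set L) := by
      refine le_inf inf_le_left ?_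
      rw [hX, centralizer_closure]
      intro z hz
      have hfz : Commute f z := mem_centralizer_iff.1 hz.2 f (mem_zpowers f)
      rw [mem_centralizer_iff]
      rintro y (rfl | rfl) <;> exact (hfix z (hWU hz.1) hfz _).eq
    set r := Nat.card (X ⊓ centralizer (W : Set L) : Subgroup L)
    have h2 : Nat.card X ^ 2 ≤ 4 * r ^ 2 := by
      refine Nat.le_of_mul_le_mul_right
        (c := Nat.card (W ⊓ centralizer (zpowers f : Set L) : Subgroup L)) ?_ Nat.card_pos
      refine ((Nat.mul_le_mul le_rfl (card_le_card_of_le hF)).trans h).trans ?_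
      exact (Nat.mul_le_mul hWF le_rfl).trans (by rw [mul_assoc, mul_assoc, mul_comm _ (r ^ 2)])
    have h3 : Nat.card X ≤ 2 * r := by nlinarith
    have hi : ((X ⊓ centralizer (W : Set L)).subgroupOf X).index = 2 := by
      have h4 : (X ⊓ centralizer (W : Set L)).relIndex X ≤ 2 := relIndex_le_of_card inf_le_left h3
      have h5 : (X ⊓ centralizer (W : Set L)).relIndex X ≠ 1 := fun h =>
        hnW k hk (relIndex_eq_one.1 h (subset_closure (Set.mem_insert _ _))).2
      have h6 : (X ⊓ centralizer (W : Set L)).relIndex X ≠ 0 := FiniteIndex.index_ne_zero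
      show (X ⊓ centralizer (W : Set L)).relIndex X = 2
      omega
    refine ((mul_mem_iff_of_index_two hi (a := (⟨bk k, subset_closure (Set.mem_insert _ _)⟩ : X))
      (b := ⟨bk l, subset_closure (Set.mem_insert_of_mem _ rfl)⟩)).2 ?_).2
    exact ⟨fun h => absurd h.2 (hnW k hk), fun h => absurd h.2 (hnW l hl)⟩
  have hc0 : bk 1 * bk 2 ∈ centralizer (W : Set L) :=
    hpair 1 2 (by simp [Small]) (by simp [Small]) (by simp [Small]) (by simp [Small])
  have hc3 : ∀ z ∈ Wk 3, Commute (bk 1 * bk 2) z := by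
    intro z hz
    have h := hpair (-2) (-1) (by simp [Small]) (by simp [Small]) (by simp [Small]) (by simp [Small])
    have := (show Commute (bk (-2) * bk (-1)) _ from
      (mem_centralizer_iff.1 h _ (mem_cj.1 hz)).symm).map (MulAut.conj (f ^ (3 : ℤ))).toMonoidHom
    have e : f ^ (3 : ℤ) * (bk (-2) * bk (-1)) * (f ^ (3 : ℤ))⁻¹ = bk 1 * bk 2 := by
      simp only [bk]
      rw [show (1 : ℤ) = 3 + -2 by norm_num, show (2 : ℤ) = 3 + -1 by norm_num]
      simp only [zpow_add, mul_inv_rev, mul_assoc, inv_mul_cancel_left]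
      norm_num
    simp only [MulEquiv.coe_toMonoidHom, MulAut.conj_apply] at this
    rw [e] at this
    simpa [mul_assoc] using this
  have hcV : ∀ v ∈ V, Commute (bk 1 * bk 2) v := by
    intro v hv
    obtain ⟨u, hu, w, hw, rfl⟩ := (hstep 3 (by simp [Small])).2.2 v hv
    refine Commute.mul_right ?_ (hc3 w hw)
    have hu' : (f ^ (3 : ℤ))⁻¹ * u * f ^ (3 : ℤ) ∈ V := by
      simpa using (mem_normalizer_iff.1 (inv_mem (zpow_mem hfV 3)) u).1 hu.1
    obtain ⟨u', hu3, w', hw', he⟩ := (hstep (-3) (by simp [Small])).2.2 _ hu'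
    have hw0 : f ^ (3 : ℤ) * w' * (f ^ (3 : ℤ))⁻¹ ∈ W := by
      have := mem_cj.1 hw'
      rwa [zpow_neg, inv_inv] at this
    have he' : u = f ^ (3 : ℤ) * u' * (f ^ (3 : ℤ))⁻¹ * (f ^ (3 : ℤ) * w' * (f ^ (3 : ℤ))⁻¹) := by
      rw [show f ^ (3 : ℤ) * u' * (f ^ (3 : ℤ))⁻¹ * (f ^ (3 : ℤ) * w' * (f ^ (3 : ℤ))⁻¹) =
        f ^ (3 : ℤ) * (u' * w') * (f ^ (3 : ℤ))⁻¹ by group, ← he]
      group
    have hx : f ^ (3 : ℤ) * u' * (f ^ (3 : ℤ))⁻¹ ∈ U := by
      have := U.mul_mem hu (U.inv_mem (hWU hw0))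
      rw [he'] at this
      rwa [mul_inv_cancel_right] at this
    have hfx := hC 3 (by simp [Small]) _ hx (by simpa [mul_assoc] using hu3)
    rw [he']
    exact ((hfix _ hx hfx 1).mul_left (hfix _ hx hfx 2)).mul_right
      (mem_centralizer_iff.1 hc0 _ hw0).symm
  refine hnle (-1) (by simp [Small]) fun z hz => hUb z (hWV _ hz) ?_
  have hz1 : f ^ (2 : ℤ) * z * (f ^ (2 : ℤ))⁻¹ ∈ Wk 1 := by
    refine mem_cj.2 ?_
    have := mem_cj.1 hz
    rw [show (2 : ℤ) = 1 + 1 by norm_num, zpow_add]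
    simpa [zpow_neg, mul_assoc] using this
  have h1 : Commute (bk 2) (f ^ (2 : ℤ) * z * (f ^ (2 : ℤ))⁻¹) := by
    have := (hbW 1 _ hz1).inv_left.mul_left (hcV _ (hWV 1 hz1))
    rwa [inv_mul_cancel_left] at this
  have := commute_conj' (g := f ^ (2 : ℤ)) h1
  simpa [mul_assoc] using this

end Cfsg.Agent.SfFree
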