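import Cfsg.Agent.S2759
import Cfsg.Agent.QdFree.ZJControl
import Cfsg.Agent.QdFree.SquareBound
import Cfsg.Agent.QdFree.Involve
import Cfsg.Agent.Thompson.Basic
import Cfsg.Agent.Core.PCore

/-!
# Basic notions for solvable groups of characteristic two without a section `S₄`

`Mem S A` : `A` is an elementary abelian subgroup of largest order of `S`.
`Data S W` : `W` is centralized by all of them and has no offenders up to the square bound.
-/

set_option autoImplicit false

namespace Cfsg.Agent.SfFree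

open Subgroup
open scoped commutatorElement

variable {L : Type*} [Group L]

/-- The conjugate of a subgroup. -/
abbrev cj (g : L) (H : Subgroup L) : Subgroup L := H.map (MulAut.conj g).toMonoidHom

theorem mem_cj {g x : L} {H : Subgroup L} : x ∈ cj g H ↔ g⁻¹ * x * g ∈ H := by
  constructor
  · rintro ⟨y, hy, rfl⟩
    simpa [mul_assoc] using hy
  · intro h
    exact ⟨_, h, by simp [mul_assoc]⟩

theorem cj_cj (g h : L) (H : Subgroup L) : cj g (cj h H) = cj (g * h) H := by
  ext x
  rw [mem_cj, mem_cj, mem_cj, mul_inv_rev]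
  simp only [mul_assoc]

theorem cj_one (H : Subgroup L) : cj 1 H = H := by
  ext x; rw [mem_cj, inv_one, one_mul, mul_one]

theorem cj_mono {g : L} {H K : Subgroup L} (h : H ≤ K) : cj g H ≤ cj g K := map_mono h

theorem cj_inf (g : L) (H K : Subgroup L) : cj g (H ⊓ K) = cj g H ⊓ cj g K := by
  ext x; simp only [mem_cj, mem_inf]

theorem cj_sup (g : L) (H K : Subgroup L) : cj g (H ⊔ K) = cj g H ⊔ cj g K := Subgroup.map_sup _ _ _

theorem cj_centralizer (g : L) (H : Subgroup L) :
    cj g (centralizer (H : Set L)) = centralizer (cj g H : Set L) := by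
  ext x
  rw [mem_cj, mem_centralizer_iff, mem_centralizer_iff]
  constructor
  · intro h y hy
    have := congrArg (fun z => g * z * g⁻¹) (h _ (mem_cj.1 hy))
    simpa [mul_assoc] using this
  · intro h y hy
    have := congrArg (fun z => g⁻¹ * z * g) (h (g * y * g⁻¹) (mem_cj.2 (by simpa [mul_assoc] using hy)))
    simpa [mul_assoc] using this

theorem card_cj (g : L) (H : Subgroup L) : Nat.card (cj g H) = Nat.card H :=
  card_map_of_injective (MulAut.conj g).injective

theorem cj_of_mem_normalizer {g : L} {H : Subgroup L} (h : g ∈ normalizer (H : Set L)) :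
    cj g H = H :=
  mem_normalizer_iff_map_conj_eq.mp h

theorem cj_of_commute {g : L} {H : Subgroup L} (h : g ∈ centralizer (H : Set L)) : cj g H = H :=
  cj_of_mem_normalizer (centralizer_le_normalizer _ h)

theorem ea_cj {g : L} {H : Subgroup L} (h : Cfsg.IsElementaryAbelian 2 H) :
    Cfsg.IsElementaryAbelian 2 (cj g H) := Thompson.ea_map h _

theorem ea_commute {A : Subgroup L} (hA : Cfsg.IsElementaryAbelian 2 A) {x y : L} (hx : x ∈ A)
    (hy : y ∈ A) : Commute x y := (mem_centralizer_iff.1 ((Thompson.ea_iff.1 hA).1 hy) x hx)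

theorem ea_sq {A : Subgroup L} (hA : Cfsg.IsElementaryAbelian 2 A) {x : L} (hx : x ∈ A) :
    x * x = 1 := by rw [← pow_two]; exact hA.2 x hx

/-- `|H| |K| ≤ |H ⊔ K| |H ⊓ K|`. -/
theorem card_mul_card_le [Finite L] (H K : Subgroup L) :
    Nat.card H * Nat.card K ≤ Nat.card (H ⊔ K : Subgroup L) * Nat.card (H ⊓ K : Subgroup L) := by
  have h1 : Nat.card (H ⊓ K : Subgroup L) * (H ⊓ K).relIndex K = Nat.card K := by
    rw [← relIndex_bot_left, ← relIndex_bot_left, relIndex_mul_relIndex _ _ _ bot_le inf_le_right]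
  have h2 : Nat.card H * H.relIndex (H ⊔ K) = Nat.card (H ⊔ K : Subgroup L) := by
    rw [← relIndex_bot_left, ← relIndex_bot_left, relIndex_mul_relIndex _ _ _ bot_le le_sup_left]
  have h3 : H.relIndex K ≤ H.relIndex (H ⊔ K) := relIndex_le_of_le_right le_sup_right FiniteIndex.index_ne_zero
  rw [inf_relIndex_right] at h1
  calc Nat.card H * Nat.card K
      = Nat.card H * (Nat.card (H ⊓ K : Subgroup L) * H.relIndex K) := by rw [h1]
    _ ≤ Nat.card H * (Nat.card (H ⊓ K : Subgroup L) * H.relIndex (H ⊔ K)) :=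
        Nat.mul_le_mul le_rfl (Nat.mul_le_mul le_rfl h3)
    _ = _ := by rw [← h2]; ring

theorem two_mul_card_le [Finite L] {H K : Subgroup L} (hle : H ≤ K) (hne : ¬ K ≤ H) :
    2 * Nat.card H ≤ Nat.card K := by
  obtain ⟨m, hm⟩ := card_dvd_of_le hle
  rw [hm, mul_comm 2]
  refine Nat.mul_le_mul le_rfl ?_
  by_contra h
  have : 0 < Nat.card K := Nat.card_pos
  have hm1 : m = 1 := by
    rcases Nat.eq_zero_or_pos m with rfl | _
    · simp at hm; omega
    · omega
  rw [hm1, mul_one] at hm
  exact hne (eq_of_le_of_card_ge hle hm.le).ge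

theorem relIndex_le_two [Finite L] {H K : Subgroup L} {a : L} (ha : a ∈ K)
    (h : ∀ x ∈ K, x ∈ H ∨ a⁻¹ * x ∈ H) : H.relIndex K ≤ 2 := by
  have hs : Function.Surjective
      (fun b : Fin 2 => (QuotientGroup.mk (if b = 0 then (1 : K) else ⟨a, ha⟩) : K ⧸ H.subgroupOf K)) := by
    intro q
    induction q using QuotientGroup.induction_on with
    | _ x =>
      rcases h x x.2 with hx | hx
      · exact ⟨0, (QuotientGroup.eq.2 (by simpa [mem_subgroupOf] using hx))⟩
      · exact ⟨1, (QuotientGroup.eq.2 (by simpa [mem_subgroupOf] using hx))⟩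
  exact (Nat.card_le_card_of_surjective _ hs).trans (Nat.card_fin 2).le

theorem card_le_mul_of_relIndex [Finite L] {H K : Subgroup L} (hle : H ≤ K) {n : ℕ}
    (h : H.relIndex K ≤ n) : Nat.card K ≤ n * Nat.card H := by
  rw [← Coprime.card_mul_relIndex_of_le hle, mul_comm]
  exact Nat.mul_le_mul h le_rfl

theorem relIndex_le_of_card [Finite L] {H K : Subgroup L} (hle : H ≤ K) {n : ℕ}
    (h : Nat.card K ≤ n * Nat.card H) : H.relIndex K ≤ n := by
  rw [← Coprime.card_mul_relIndex_of_le hle, mul_comm] at h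
  exact Nat.le_of_mul_le_mul_right h Nat.card_pos

theorem coprime_two_of_odd {n : ℕ} (h : Odd n) : n.Coprime 2 :=
  Nat.coprime_two_right.2 h

theorem self_mem_zpowers_pow {f : L} {m : ℕ} (h : m.Coprime (orderOf f)) :
    f ∈ zpowers (f ^ m) := by
  obtain ⟨k, hk⟩ := exists_pow_eq_self_of_coprime h
  exact ⟨k, by simpa using hk⟩

/-- An element of odd order prime to 3 fixing a subgroup of index at most 4 of a 2-group
elementwise centralizes the 2-group. -/
theorem mem_centralizer_of_small_index [Finite L] {D X : Subgroup L} {f : L}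
    (hD : IsPGroup 2 D) (hXD : X ≤ D) (hX : X.relIndex D ≤ 4) (hf : Odd (orderOf f))
    (h3 : ¬ 3 ∣ orderOf f) (hfD : f ∈ normalizer (D : Set L))
    (hfX : f ∈ centralizer (X : Set L)) : f ∈ centralizer (D : Set L) := by
  rw [mem_centralizer_iff]
  intro x hx
  have hmem : ∀ m : ℕ, f ^ m * x * (f ^ m)⁻¹ ∈ D := fun m =>
    (mem_normalizer_iff.mp (pow_mem hfD m) x).mp hx
  let c : Fin 5 → D ⧸ X.subgroupOf D := fun i => QuotientGroup.mk ⟨_, hmem i⟩
  obtain ⟨i, j, hij, he⟩ : ∃ i j : Fin 5, i < j ∧ c i = c j := by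
    have hninj : ¬ Function.Injective c := fun hc => by
      have := Nat.card_le_card_of_injective c hc
      rw [Nat.card_fin] at this
      exact absurd (this.trans hX) (by norm_num)
    simp only [Function.Injective, not_forall] at hninj
    obtain ⟨i, j, he, hne⟩ := hninj
    rcases lt_or_gt_of_ne hne with h | h
    exacts [⟨i, j, h, he⟩, ⟨j, i, h, he.symm⟩]
  set m : ℕ := j.val - i.val with hm
  have hm1 : 1 ≤ m := by have : i.val < j.val := hij; omega
  have hm4 : m ≤ 4 := by have := j.isLt; omega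
  set g := f ^ m with hg
  have hj : f ^ j.val = f ^ i.val * g := by rw [hg, ← pow_add]; congr 1; omega
  have h1 : (f ^ i.val * x * (f ^ i.val)⁻¹)⁻¹ * (f ^ j.val * x * (f ^ j.val)⁻¹) ∈ X :=
    mem_subgroupOf.1 (QuotientGroup.eq.1 he)
  rw [hj] at h1
  have hcX : ∀ y ∈ X, Commute (f ^ i.val) y := fun y hy =>
    ((show Commute f y from (mem_centralizer_iff.1 hfX y hy).symm).pow_left _)
  set y := (f ^ i.val * x * (f ^ i.val)⁻¹)⁻¹ * (f ^ i.val * g * x * (f ^ i.val * g)⁻¹) with hy
  have e : x⁻¹ * (g * x * g⁻¹) = (f ^ i.val)⁻¹ * y * f ^ i.val := by rw [hy]; group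
  have h2 : x⁻¹ * (g * x * g⁻¹) ∈ X := by
    rw [e, (hcX y h1).inv_left.eq, mul_assoc, inv_mul_cancel, mul_one]
    exact h1
  have hgX : g ∈ centralizer (X : Set L) := pow_mem hfX m
  have hg2 : (orderOf g).Coprime 2 :=
    Nat.Coprime.coprime_dvd_left (orderOf_pow_dvd m) (coprime_two_of_odd hf)
  have hcomm : Commute g x⁻¹ := by
    refine QdFree.ZJControl.commute_of_stable (hD.to_le hXD) hg2 hgX ?_
    have := inv_mem h2
    rwa [show (x⁻¹ * (g * x * g⁻¹))⁻¹ = g * x⁻¹ * g⁻¹ * x⁻¹⁻¹ by group] at this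
  have hco : m.Coprime (orderOf f) := by
    have h2' := coprime_two_of_odd hf
    have h3' : (3 : ℕ).Coprime (orderOf f) := (Nat.Prime.coprime_iff_not_dvd Nat.prime_three).2 h3
    interval_cases m
    · exact Nat.coprime_one_left _
    · exact h2'.symm
    · exact h3'
    · exact (Nat.Coprime.pow_left 2 h2'.symm : (2 ^ 2).Coprime _)
  have : f ∈ centralizer {x} := by
    refine zpowers_le.2 (mem_centralizer_iff.2 ?_) (self_mem_zpowers_pow hco)
    intro z hz
    rw [Set.mem_singleton_iff.1 hz]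
    exact (show Commute g x by simpa using hcomm.inv_right).eq.symm
  exact mem_centralizer_iff.1 this x rfl

/-! ### Largest elementary abelian subgroups and the main hypothesis -/

/-- `A` is an elementary abelian subgroup of `S` of largest order. -/
def Mem (S A : Subgroup L) : Prop :=
  A ≤ S ∧ Cfsg.IsElementaryAbelian 2 A ∧
    ∀ B ≤ S, Cfsg.IsElementaryAbelian 2 B → Nat.card B ≤ Nat.card A

/-- The subgroup generated by the largest elementary abelian subgroups. -/
def jS (S : Subgroup L) : Subgroup L := ⨆ (A : Subgroup L) (_ : Mem S A), A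

theorem le_jS {S A : Subgroup L} (h : Mem S A) : A ≤ jS S :=
  le_iSup₂ (f := fun (A : Subgroup L) (_ : Mem S A) => A) A h

theorem jS_le (S : Subgroup L) : jS S ≤ S := iSup₂_le fun _ h => h.1

theorem exists_mem [Finite L] (S : Subgroup L) : ∃ A, Mem S A := by
  obtain ⟨A, hA, hmax⟩ := Set.exists_max_image
    {A : Subgroup L | A ≤ S ∧ Cfsg.IsElementaryAbelian 2 A} (fun A => Nat.card A) (Set.toFinite _)
    ⟨⊥, bot_le, Thompson.ea_bot⟩
  exact ⟨A, hA.1, hA.2, fun B hB hBe => hmax B ⟨hB, hBe⟩⟩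

theorem Mem.of_card {S A B : Subgroup L} (hA : Mem S A) (hB : B ≤ S)
    (hBe : Cfsg.IsElementaryAbelian 2 B) (hc : Nat.card A ≤ Nat.card B) : Mem S B :=
  ⟨hB, hBe, fun C hC hCe => (hA.2.2 C hC hCe).trans hc⟩

/-- A largest elementary abelian subgroup contains whatever centralizes it. -/
theorem Mem.le_of_centralizer [Finite L] {S A X : Subgroup L} (hA : Mem S A) (hX : X ≤ S)
    (hXe : Cfsg.IsElementaryAbelian 2 X) (hc : X ≤ centralizer (A : Set L)) : X ≤ A := by
  have h := hA.2.2 (X ⊔ A) (sup_le hX hA.1) (Thompson.ea_sup hXe hA.2.1 hc)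
  exact le_sup_left.trans (eq_of_le_of_card_ge le_sup_right h).ge

/-- Elements normalizing `S` normalize the subgroup generated by the largest ones. -/
theorem mem_normalizer_jS [Finite L] {S : Subgroup L} {g : L}
    (h : ∀ A, Mem S A → cj g A ≤ S) : g ∈ normalizer (jS S : Set L) := by
  rw [mem_normalizer_iff_map_conj_eq]
  refine eq_of_le_of_card_ge ?_ (card_cj g _).ge
  rw [jS, Subgroup.map_iSup]
  refine iSup_le fun A => ?_
  rw [Subgroup.map_iSup]
  exact iSup_le fun hA => le_jS (hA.of_card (h A hA) (ea_cj hA.2.1) (card_cj g A).ge)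

theorem le_normalizer_jS [Finite L] (S : Subgroup L) : S ≤ normalizer (jS S : Set L) := fun _ hg =>
  mem_normalizer_jS fun _ hA => (cj_mono hA.1).trans (cj_of_mem_normalizer (le_normalizer hg)).le

/-- The hypothesis on `W`. -/
structure Data (S W : Subgroup L) : Prop where
  le_S : W ≤ S
  normal : S ≤ normalizer (W : Set L)
  ea : Cfsg.IsElementaryAbelian 2 W
  central : ∀ A, Mem S A → A ≤ centralizer (W : Set L)
  sq : ∀ A ≤ S, (∀ a ∈ A, a * a ∈ centralizer (W : Set L)) →
    (∀ a ∈ A, ∀ b ∈ A, ⁅a, b⁆ ∈ centralizer (W : Set L)) →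
    Nat.card A ^ 2 * Nat.card (W ⊓ centralizer (A : Set L) : Subgroup L) ≤
      Nat.card W * Nat.card (A ⊓ centralizer (W : Set L) : Subgroup L) ^ 2

theorem Data.sq_ea {S W : Subgroup L} (hd : Data S W) {A : Subgroup L} (hAS : A ≤ S)
    (hA : Cfsg.IsElementaryAbelian 2 A) :
    Nat.card A ^ 2 * Nat.card (W ⊓ centralizer (A : Set L) : Subgroup L) ≤
      Nat.card W * Nat.card (A ⊓ centralizer (W : Set L) : Subgroup L) ^ 2 := by
  refine hd.sq A hAS (fun a ha => by rw [ea_sq hA ha]; exact one_mem _) fun a ha b hb => ?_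
  rw [commutatorElement_eq_one_iff_commute.2 (ea_commute hA ha hb)]
  exact one_mem _

theorem map_inf_centralizer {N : Type*} [Group N] {ι : N →* L} (hι : Function.Injective ι)
    (A B : Subgroup N) :
    (A ⊓ centralizer (B : Set N)).map ι = A.map ι ⊓ centralizer (B.map ι : Set L) := by
  refine le_antisymm ?_ ?_
  · rintro _ ⟨x, hx, rfl⟩
    refine ⟨mem_map_of_mem ι hx.1, mem_centralizer_iff.2 ?_⟩
    rintro _ ⟨y, hy, rfl⟩
    rw [← map_mul, ← map_mul, mem_centralizer_iff.1 hx.2 y hy]
  · rintro _ ⟨⟨x, hx, rfl⟩, hc⟩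
    exact ⟨x, ⟨hx, mem_centralizer_iff.2 fun y hy => hι (by
      rw [map_mul, map_mul]; exact mem_centralizer_iff.1 hc _ (mem_map_of_mem ι hy))⟩, rfl⟩

theorem mem_map_iff' {N : Type*} [Group N] {ι : N →* L} (hι : Function.Injective ι)
    {S A : Subgroup N} : Mem (S.map ι) (A.map ι) ↔ Mem S A := by
  constructor
  · rintro ⟨h1, h2, h3⟩
    refine ⟨(map_le_map_iff_of_injective hι).1 h1, (Thompson.ea_map_iff hι).1 h2, fun B hB hBe => ?_⟩
    have := h3 _ (map_mono hB) (Thompson.ea_map hBe ι)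
    rwa [card_map_of_injective hι, card_map_of_injective hι] at this
  · rintro ⟨h1, h2, h3⟩
    refine ⟨map_mono h1, Thompson.ea_map h2 ι, fun B hB hBe => ?_⟩
    have hB' : (B.comap ι).map ι = B := map_comap_eq_self (hB.trans (map_le_range ι S))
    have := h3 (B.comap ι) (fun x hx => by
      obtain ⟨y, hy, he⟩ := hB hx
      exact hι he ▸ hy) ((Thompson.ea_map_iff hι).1 (hB'.symm ▸ hBe))
    rwa [card_map_of_injective hι, ← hB', card_map_of_injective hι]

theorem jS_map {N : Type*} [Group N] {ι : N →* L} (hι : Function.Injective ι) (S : Subgroup N) :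
    jS (S.map ι) = (jS S).map ι := by
  refine le_antisymm (iSup₂_le fun B hB => ?_) ?_
  · have hB' : (B.comap ι).map ι = B := map_comap_eq_self (hB.1.trans (map_le_range ι S))
    rw [← hB'] at hB ⊢
    exact map_mono (le_jS ((mem_map_iff' hι).1 hB))
  · rw [jS, Subgroup.map_iSup]
    refine iSup_le fun A => ?_
    rw [Subgroup.map_iSup]
    exact iSup_le fun hA => le_jS ((mem_map_iff' hι).2 hA)

/-- `Data` restricts to subgroups. -/
theorem Data.comap {N : Type*} [Group N] {ι : N →* L} (hι : Function.Injective ι)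
    {S W : Subgroup N} (hd : Data (S.map ι) (W.map ι)) : Data S W := by
  have key : ∀ {A : Subgroup N}, A.map ι ≤ centralizer (W.map ι : Set L) →
      A ≤ centralizer (W : Set N) := fun {A} h a ha => mem_centralizer_iff.2 fun w hw => hι (by
    rw [map_mul, map_mul]; exact mem_centralizer_iff.1 (h (mem_map_of_mem ι ha)) _ (mem_map_of_mem ι hw))
  refine ⟨(map_le_map_iff_of_injective hι).1 hd.le_S, fun s hs => mem_normalizer_iff.2 fun w => ?_,
    (Thompson.ea_map_iff hι).1 hd.ea, fun A hA => key (hd.central _ ((mem_map_iff' hι).2 hA)),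
    fun A hA hsq hcm => ?_⟩
  · rw [← mem_map_iff_mem hι, ← mem_map_iff_mem hι, map_mul, map_mul, map_inv]
    exact mem_normalizer_iff.1 (hd.normal (mem_map_of_mem ι hs)) _
  · have hcen : ∀ z, z ∈ centralizer (W : Set N) → ι z ∈ centralizer (W.map ι : Set L) := by
      intro z hz
      rw [mem_centralizer_iff]
      rintro _ ⟨w, hw, rfl⟩
      rw [← map_mul, ← map_mul, mem_centralizer_iff.1 hz w hw]
    have := hd.sq (A.map ι) (map_mono hA)
      (by rintro _ ⟨a, ha, rfl⟩; rw [← map_mul]; exact hcen _ (hsq a ha))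
      (by rintro _ ⟨a, ha, rfl⟩ _ ⟨b, hb, rfl⟩; rw [← map_commutatorElement]; exact hcen _ (hcm a ha b hb))
    rwa [← map_inf_centralizer hι, ← map_inf_centralizer hι, card_map_of_injective hι,
      card_map_of_injective hι, card_map_of_injective hι, card_map_of_injective hι] at this

/-- Solvable, of characteristic two, without a section `S₄`. -/
structure Good (L : Type*) [Group L] : Prop where
  solvable : Group.IsSolvable L
  char2 : centralizer (Cfsg.pCore 2 L : Set L) ≤ Cfsg.pCore 2 L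
  free : ¬ Cfsg.Involves (Equiv.Perm (Fin 4)) L

/-- No involution of `L / O₂(L)` inverts an element of order 3. -/
theorem Good.no_three [Finite L] (hL : Good L) {x y : L ⧸ Cfsg.pCore 2 L} (hx : x * x = 1)
    (hy : orderOf y = 3) : x * y * x⁻¹ ≠ y⁻¹ := by
  intro hinv
  have hx1 : x ≠ 1 := fun e => by
    rw [e, one_mul, inv_one, mul_one] at hinv
    have := orderOf_dvd_of_pow_eq_one (x := y) (n := 2)
      (by rw [pow_two]; exact eq_inv_iff_mul_eq_one.mp hinv)
    rw [hy] at this
    norm_num at this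
  obtain ⟨H, f, hf⟩ := QdFree.SquareBound.involves_s3_of_inverted hx hx1 hy hinv
  refine hL.free (S2759.result.mpr ⟨Cfsg.pCore 2 L, Core.pCore_isPGroup, ?_⟩)
  set N := normalizer (Cfsg.pCore 2 L : Set L)
  refine QdFree.involves_of_surjective (QdFree.involves_mk H f hf)
    (f := QuotientGroup.lift _ ((QuotientGroup.mk' (Cfsg.pCore 2 L)).comp N.subtype) ?_) ?_
  · intro z hz
    exact (QuotientGroup.eq_one_iff _).2 (hL.char2 hz)
  · intro q
    obtain ⟨z, rfl⟩ := QuotientGroup.mk'_surjective (Cfsg.pCore 2 L) q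
    exact ⟨QuotientGroup.mk ⟨z, by show z ∈ N; rw [show N = ⊤ from normalizer_eq_top _]; exact mem_top z⟩, rfl⟩

/-- Subgroups containing `O₂(L)` inherit the hypothesis. -/
theorem Good.subgroup [Finite L] (hL : Good L) {N : Subgroup L} (hN : Cfsg.pCore 2 L ≤ N) :
    Good N := by
  have := hL.solvable
  refine ⟨inferInstance, fun x hx => ?_, fun h => hL.free (QdFree.involves_of_subgroup h)⟩
  have hle : (Cfsg.pCore 2 L).subgroupOf N ≤ Cfsg.pCore 2 N :=
    Core.le_pCore Core.pCore_isPGroup.comap_subtype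
  refine hle (mem_subgroupOf.2 (hL.char2 (mem_centralizer_iff.2 fun q hq => ?_)))
  exact congrArg Subtype.val (mem_centralizer_iff.1 hx ⟨q, hN hq⟩ (hle hq))

end Cfsg.Agent.SfFree
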