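import Cfsg.Agent.S4Free.Offending
import Cfsg.Agent.Thompson.Stable

/-!
# `L = ⟨N(J(S)), N(W)⟩` for solvable groups of characteristic two without a section `S₄`
-/

set_option autoImplicit false

namespace Cfsg.Agent.SfFree

open Subgroup
open scoped commutatorElement

universe u

/-- A subgroup containing the normalizers of `J(S)` and of `W` is everything. -/
theorem eq_top_of_normalizers_le {L : Type u} [Group L] [Finite L] (hL : Good L) (S : Sylow 2 L)
    {W : Subgroup L} (hd : Data (S : Subgroup L) W) (M : Subgroup L)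
    (hJ : normalizer (jS (S : Subgroup L) : Set L) ≤ M)
    (hW : normalizer (W : Set L) ≤ M) : M = ⊤ := by
  induction hn : Nat.card L using Nat.strong_induction_on generalizing L with
  | _ n ih =>
  subst hn
  have : Fact (Nat.Prime 2) := ⟨Nat.prime_two⟩
  set Q := Cfsg.pCore 2 L with hQ
  set π := QuotientGroup.mk' Q with hπ
  have hπs : Function.Surjective π := QuotientGroup.mk'_surjective Q
  set D := Cfsg.pPrimeCore 2 (L ⧸ Q) with hD
  have hQS : Q ≤ S := Core.pCore_le_sylow S
  have hSM : (S : Subgroup L) ≤ M := hd.normal.trans hW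
  have hQM : Q ≤ M := hQS.trans hSM
  set Mb := M.map π with hMb
  -- `[D, J] ≤ M`
  have hmem : ∀ A, Mem (S : Subgroup L) A → ⁅D, A.map π⁆ ≤ Mb := by
    intro A hA
    exact commutator_map_le hL hA.2.1 Mb fun B a f hBA ha hcos hAQ hfo h3 haf hfN =>
      mem_map_of_mem π (hW (mem_normalizer_W hL S hd hA hBA ha hcos hAQ hfo h3 haf hfN))
  set Jb := (jS (S : Subgroup L)).map π with hJb
  have hJM : Jb ≤ Mb := map_mono ((jS_le _).trans hSM)
  have hcomm : ⁅D, Jb⁆ ≤ Mb := by
    have hY : ∀ y ∈ Jb, y ∈ Mb ∧ ∀ d ∈ D, ⁅d, y⁆ ∈ Mb := by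
      let Y : Subgroup (L ⧸ Q) :=
        { carrier := {y | y ∈ Mb ∧ ∀ d ∈ D, ⁅d, y⁆ ∈ Mb}
          one_mem' := ⟨one_mem _, fun d _ => by rw [commutatorElement_one_right]; exact one_mem _⟩
          mul_mem' := fun {x y} hx hy => ⟨mul_mem hx.1 hy.1, fun d hd => by
            rw [show ⁅d, x * y⁆ = ⁅d, x⁆ * (x * ⁅d, y⁆ * x⁻¹) by
              simp only [commutatorElement_def]; group]
            exact mul_mem (hx.2 d hd) (mul_mem (mul_mem hx.1 (hy.2 d hd)) (inv_mem hx.1))⟩
          inv_mem' := fun {x} hx => ⟨inv_mem hx.1, fun d hd => by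
            rw [show ⁅d, x⁻¹⁆ = x⁻¹ * ⁅d, x⁆⁻¹ * x by simp only [commutatorElement_def]; group]
            exact mul_mem (mul_mem (inv_mem hx.1) (inv_mem (hx.2 d hd))) hx.1⟩ }
      suffices h : Jb ≤ Y from fun y hy => h hy
      rw [hJb, jS, Subgroup.map_iSup]
      refine iSup_le fun A => ?_
      rw [Subgroup.map_iSup]
      refine iSup_le fun hA y hy => ⟨hJM (map_mono (le_jS hA) hy), fun d hd => ?_⟩
      exact hmem A hA (commutator_mem_commutator hd hy)
    rw [commutator_le]
    exact fun d hd y hy => (hY y hy).2 d hd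
  have hDM : D ≤ Mb := by
    have hJp : IsPGroup 2 Jb := (S.2.to_le (jS_le _)).map _
    have hcop : (Nat.card Jb).Coprime (Nat.card D) := by
      obtain ⟨k, hk⟩ := IsPGroup.iff_card.mp hJp
      rw [hk]; exact (Core.coprime_card_pPrimeCore).symm.pow_left k
    have := hL.solvable
    rw [← Coprime.commutator_sup_centralizer (A := Jb) (K := D)
      (by rw [normalizer_eq_top]; exact le_top) hcop (Or.inl inferInstance)]
    refine sup_le hcomm fun y hy => ?_
    obtain ⟨x, rfl⟩ := hπs y
    refine mem_map_of_mem π (hJ (mem_normalizer_jS fun A hA => ?_))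
    rintro _ ⟨a, ha, rfl⟩
    have h1 : π (x * a * x⁻¹) = π a := by
      rw [map_mul, map_mul, map_inv, (mem_centralizer_iff.1 hy.2 (π a)
        (mem_map_of_mem π (le_jS hA ha))).symm, mul_inv_cancel_right]
    have h2 : x * a * x⁻¹ * a⁻¹ ∈ Q :=
      (QuotientGroup.eq_one_iff _).1 (by
        show π (x * a * x⁻¹ * a⁻¹) = 1
        rw [map_mul, h1, ← map_mul, mul_inv_cancel, map_one])
    have := mul_mem (hQS h2) (hA.1 ha)
    rw [inv_mul_cancel_right] at this
    exact this
  -- the map onto `L / D`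
  set φ := (QuotientGroup.mk' D).comp π with hφ
  have hφs : Function.Surjective φ := (QuotientGroup.mk'_surjective D).comp hπs
  have hker : φ.ker = D.comap π := by
    rw [hφ, ← MonoidHom.comap_ker, QuotientGroup.ker_mk']
  set C := D.comap π with hC
  have hCM : C ≤ M := by
    refine (comap_mono hDM).trans ?_
    rw [hMb, comap_map_eq, QuotientGroup.ker_mk']
    exact sup_le le_rfl hQM
  set R := Cfsg.pCore 2 ((L ⧸ Q) ⧸ D) with hR
  set E := R.comap φ with hE
  have hCE : C ≤ E := hker.ge.trans (ker_le_comap φ R)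
  obtain ⟨k, hk⟩ := IsPGroup.iff_card.1 (Core.pCore_isPGroup (p := 2) (G := (L ⧸ Q) ⧸ D))
  have hrel : C.relIndex E = 2 ^ k := by
    have h1 := Subgroup.relIndex_ker φ (K := E)
    rw [hker, hE, map_comap_eq_self_of_surjective hφs] at h1
    rw [hE, h1, hR, hk]
  set T := E ⊓ (S : Subgroup L) with hT
  have hET : ∀ e ∈ E, ∃ c ∈ C, ∃ t ∈ T, e = c * t := fun e he =>
    Thompson.exists_mul_of_relIndex S hCE hrel he
  have hEM : E ≤ M := by
    intro e he
    obtain ⟨c, hc, t, ht, rfl⟩ := hET e he
    exact mul_mem (hCM hc) (hSM ht.2)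
  by_cases hTn : T.Normal
  · -- then `L = D`
    have hTQ : T ≤ Q := Core.le_pCore (S.2.to_le inf_le_right)
    have hEC : E ≤ C := by
      intro e he
      obtain ⟨c, hc, t, ht, rfl⟩ := hET e he
      refine mul_mem hc ?_
      show π t ∈ D
      rw [show π t = 1 from (QuotientGroup.eq_one_iff t).2 (hTQ ht)]
      exact one_mem _
    have hR0 : R = ⊥ := by
      rw [← map_comap_eq_self_of_surjective hφs R, ← hE, Subgroup.map_eq_bot_iff, hker]
      exact hEC
    have := hL.solvable
    have hC1 := Offender.centralizer_pPrimeCore_le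
      (Fusion.isPSolvable_of_isSolvable (p := 2) ((L ⧸ Q) ⧸ D)) hR0
    have e : Cfsg.pPrimeCore 2 ((L ⧸ Q) ⧸ D) = ⊥ := Core.pPrimeCore_quotient_eq_bot
    rw [e, le_bot_iff, coe_bot] at hC1
    refine top_le_iff.1 fun x _ => hCM ?_
    rw [← hker, MonoidHom.mem_ker, ← Subgroup.mem_bot, ← hC1]
    exact mem_centralizer_iff.2 fun z hz => by
      rw [Set.mem_singleton_iff.1 hz, one_mul, mul_one]
  · set N := normalizer (T : Set L) with hN
    have hSN : (S : Subgroup L) ≤ N := fun s hs => by
      refine QdFree.ZJControl.mem_normalizer_of_conj fun t ht => ⟨?_, ?_⟩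
      · exact (inferInstance : E.Normal).conj_mem t ht.1 s
      · exact S.mul_mem (S.mul_mem hs ht.2) (S.inv_mem hs)
    have hlt : Nat.card N < Nat.card L := by
      refine lt_of_le_of_ne (Nat.le_of_dvd Nat.card_pos (card_subgroup_dvd_card N)) fun h => hTn ?_
      rw [← normalizer_eq_top_iff]
      exact Subgroup.eq_top_of_card_eq _ h
    have hmapS : ((S.subtype hSN : Sylow 2 N) : Subgroup N).map N.subtype = (S : Subgroup L) := by
      rw [Sylow.coe_subtype, subgroupOf_map_subtype, inf_eq_left.2 hSN]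
    have hmapW : (W.subgroupOf N).map N.subtype = W := by
      rw [subgroupOf_map_subtype, inf_eq_left.2 (hd.le_S.trans hSN)]
    have hd' : Data ((S.subtype hSN : Sylow 2 N) : Subgroup N) (W.subgroupOf N) :=
      Data.comap N.subtype_injective (by rw [hmapS, hmapW]; exact hd)
    have hNM : M.subgroupOf N = ⊤ := by
      refine ih _ hlt (hL.subgroup (hQS.trans hSN)) (S.subtype hSN) hd' _ ?_ ?_ rfl
      · intro x hx
        refine hJ ?_
        have := le_normalizer_map N.subtype ⟨x, hx, rfl⟩
        rwa [← jS_map N.subtype_injective, hmapS] at this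
      · intro x hx
        refine hW ?_
        have := le_normalizer_map N.subtype ⟨x, hx, rfl⟩
        rwa [hmapW] at this
    have hNle : N ≤ M := subgroupOf_eq_top.1 hNM
    -- the Frattini argument
    refine top_le_iff.1 ?_
    have hidx : ¬ 2 ∣ (T.subgroupOf E).index := by
      show ¬ 2 ∣ T.relIndex E
      rw [hT, inf_comm, inf_relIndex_right]
      exact Thompson.not_dvd_relIndex_sylow S E
    have hTp : IsPGroup 2 (T.subgroupOf E) :=
      (S.2.to_le (inf_le_right : T ≤ S)).comap_subtype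
    have hsup := Sylow.normalizer_sup_eq_top (hTp.toSylow hidx)
    rw [IsPGroup.toSylow_coe, subgroupOf_map_subtype, inf_eq_left.2 (inf_le_left : T ≤ E)] at hsup
    rw [← hsup]
    exact sup_le hNle hEM

end Cfsg.Agent.SfFree
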